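import Mathlib
import Cfsg.Prelude.Def_Characters
import Cfsg.Prelude.Def_OddOrderChar
import Cfsg.Prelude.Def_OddOrderLocal
import Cfsg.Agent.Characters.Core
import Cfsg.Agent.OddOrderCharacters.PFDefs
import Cfsg.Agent.OddOrderCharacters.VChar
import Cfsg.Agent.OddOrderCharacters.IndRes
import Cfsg.Agent.OddOrderCharacters.DadeBasic
import Cfsg.Agent.OddOrderCharacters.CyclicTI
import Cfsg.Agent.OddOrderCharacters.ColSum
import Cfsg.Agent.OddOrderCharacters.CoherenceExt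
import Cfsg.Agent.OddOrderCharacters.PF4b.TIFam
import Cfsg.Agent.S0138
import Cfsg.Agent.S0181
import Cfsg.Agent.S1501

/-!
# Peterfalvi (4.7), (4.8), (4.9)
-/

set_option autoImplicit false

open scoped ComplexConjugate
open Cfsg Cfsg.Agent.Characters.Core Cfsg.Agent.OddOrderCharacters.PFDefs
open Cfsg.Agent.OddOrderCharacters.VChar

universe u v

namespace Cfsg.Agent.OddOrderCharacters.PF4b.Prime

section supp

section kernel

variable {G : Type u} [Group G]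

/-- An element on which a character takes its degree acts trivially. -/
theorem char_mul_of_ker [Finite G] {χ : G → ℂ} (hχ : IsCharacter G χ) {g : G} (hg : χ g = χ 1)
    (x : G) : χ (g * x) = χ x := by
  obtain ⟨n, ρ, rfl⟩ := hχ
  rcases Nat.eq_zero_or_pos n with rfl | hn
  · have h0 : ∀ y : G, ρ.character y = 0 := by
      intro y
      have : ρ y = 0 := Subsingleton.elim _ _
      rw [Representation.character, this, map_zero]
    rw [h0, h0]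
  · have h1 : ρ.character 1 = (n : ℂ) := by
      rw [Representation.char_one]; simp
    have hnorm : ‖ρ.character g‖ = (Module.finrank ℂ (Fin n → ℂ) : ℝ) := by
      rw [hg, h1]; simp
    obtain ⟨ω, hω⟩ := (Cfsg.Agent.S0138.result ρ g).mp hnorm
    have htr : ρ.character g = ω * n := by
      rw [Representation.character, hω, map_smul, smul_eq_mul, LinearMap.trace_id]
      simp
    have hω1 : ω = 1 := by
      rw [hg, h1] at htr
      have hn0 : (n : ℂ) ≠ 0 := by exact_mod_cast hn.ne'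
      have : (n : ℂ) * (ω - 1) = 0 := by linear_combination -htr
      rcases mul_eq_zero.mp this with h | h
      · exact absurd h hn0
      · exact sub_eq_zero.mp h
    have hid : ρ g = 1 := by rw [hω, hω1, one_smul]; rfl
    rw [Representation.character, Representation.character, map_mul, hid, one_mul]

/-- An irreducible character with a nontrivial value on the normal subgroup `N` vanishes on elements
commuting with no non-identity element of `N`. -/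
theorem irr_vanish [Finite G] {θ : G → ℂ} (hθ : IsIrrCharacter G θ) (N : Subgroup G) [N.Normal]
    (hN : ∃ x ∈ N, θ x ≠ θ 1) {g : G} (hg : ∀ h ∈ N, h * g = g * h → h = 1) : θ g = 0 := by
  obtain ⟨n, ρ, hρ, rfl⟩ := hθ
  have := hρ
  refine Cfsg.Agent.S0181.result ρ N ?_ g hg
  obtain ⟨x, hx, hne⟩ := hN
  refine ⟨x, hx, fun h => hne ?_⟩
  rw [Representation.character, Representation.character, h, map_one]
  rfl

end kernel

variable {G : Type u} [Group G] {L K H W W₁ W₂ : Subgroup G}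
  {A A₀ : Set G} {R : G → Subgroup G}

theorem K_normal (h : PrimeTIHyp L K W W₁ W₂) : (K.subgroupOf L).Normal :=
  ⟨fun k hk x => by
    rw [Subgroup.mem_subgroupOf] at hk ⊢
    exact h.normal x x.2 k hk⟩

theorem A_subset (hD : PrimeDadeHyp L K H A A₀ W W₁ W₂ R) : A ⊆ A₀ := by
  rw [hD.A₀_eq]; exact Set.subset_union_left

theorem V_subset (hD : PrimeDadeHyp L K H A A₀ W W₁ W₂ R) :
    classSupport (cycTIset W W₁ W₂) L ⊆ A₀ := by
  rw [hD.A₀_eq]; exact Set.subset_union_right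

theorem mem_cycTIset {w : G} : w ∈ cycTIset W W₁ W₂ ↔ w ∈ W ∧ w ∉ W₁ ∧ w ∉ W₂ := by
  constructor
  · rintro ⟨h1, h2⟩
    exact ⟨h1, fun h => h2 (Or.inl h), fun h => h2 (Or.inr h)⟩
  · rintro ⟨h1, h2, h3⟩
    exact ⟨h1, fun h => h.elim h2 h3⟩

theorem mem_classSupport_self {w : G} (hw : w ∈ cycTIset W W₁ W₂) (L : Subgroup G) :
    w ∈ classSupport (cycTIset W W₁ W₂) L := ⟨1, L.one_mem, w, hw, by group⟩

/-- (4.7)(a) -/
theorem prDade_irr_on [Finite G] (hD : PrimeDadeHyp L K H A A₀ W W₁ W₂ R)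
    {θ : ↥(K.subgroupOf L) → ℂ} (hθ : IsIrrCharacter ↥(K.subgroupOf L) θ)
    (hH : ∃ x : ↥(K.subgroupOf L), ((x : ↥L) : G) ∈ H ∧ θ x ≠ θ 1)
    (x : ↥(K.subgroupOf L)) (hx1 : x ≠ 1) (hxA : ((x : ↥L) : G) ∉ A) : θ x = 0 := by
  have hHn : ((H.subgroupOf L).subgroupOf (K.subgroupOf L)).Normal := ⟨fun h hh y => by
    rw [Subgroup.mem_subgroupOf, Subgroup.mem_subgroupOf] at hh ⊢
    exact hD.H_normal (y : ↥L) (y : ↥L).2 _ hh⟩
  refine irr_vanish hθ ((H.subgroupOf L).subgroupOf (K.subgroupOf L)) ?_ ?_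
  · obtain ⟨y, hy, hne⟩ := hH
    exact ⟨y, by rw [Subgroup.mem_subgroupOf, Subgroup.mem_subgroupOf]; exact hy, hne⟩
  · intro h hh hc
    by_contra hne
    rw [Subgroup.mem_subgroupOf, Subgroup.mem_subgroupOf] at hh
    refine hxA (hD.centralizer_sub ((h : ↥L) : G) hh ?_ ((x : ↥L) : G) x.2 ?_ ?_)
    · intro h1
      exact hne (Subtype.ext (Subtype.ext h1))
    · intro h1
      exact hx1 (Subtype.ext (Subtype.ext h1))
    · have := congrArg (fun z : ↥(K.subgroupOf L) => ((z : ↥L) : G)) hc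
      exact this.symm

/-- (4.7)(b) -/
theorem prDade_Ind_irr_on [Finite G] [Fintype ↥L] (hD : PrimeDadeHyp L K H A A₀ W W₁ W₂ R)
    {θ : ↥(K.subgroupOf L) → ℂ} (hθ : IsIrrCharacter ↥(K.subgroupOf L) θ)
    (hH : ∃ x : ↥(K.subgroupOf L), ((x : ↥L) : G) ∈ H ∧ θ x ≠ θ 1)
    (x : ↥L) (hx1 : x ≠ 1) (hxA : (x : G) ∉ A) : indFun (K.subgroupOf L) θ x = 0 := by
  refine IndRes.indFun_eq_zero_of_forall_apply _ θ ?_
  intro y hy
  refine prDade_irr_on hD hθ hH _ ?_ ?_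
  · intro h1
    apply hx1
    have h2 : y⁻¹ * x * y = 1 := congrArg Subtype.val h1
    have h3 : x = y * (y⁻¹ * x * y) * y⁻¹ := by group
    rw [h3, h2]; group
  · intro h1
    apply hxA
    have h2 := hD.A_normal y y.2 _ h1
    have h3 : (y : G) * (((y⁻¹ * x * y : ↥L)) : G) * (y : G)⁻¹ = x := by
      push_cast
      group
    rwa [h3] at h2

/-- Members of `seqIndOf L K H Y` vanish off `A ∪ {1}`. -/
theorem prDade_seqInd_on [Finite G] [Fintype ↥L] (hD : PrimeDadeHyp L K H A A₀ W W₁ W₂ R)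
    {Y : Subgroup G} {φ : ↥L → ℂ} (hφ : φ ∈ seqIndOf L K H Y) (x : ↥L) (hx1 : x ≠ 1)
    (hxA : (x : G) ∉ A) : φ x = 0 := by
  obtain ⟨θ, hθ, ⟨y, hy, hne⟩, -, rfl⟩ := hφ
  exact prDade_Ind_irr_on hD hθ ⟨y, hy, hne⟩ x hx1 hxA

variable [Fintype G] [Fintype ↥L]
  {μ : (↥W →* ℂˣ) → (↥L → ℂ)} {δ : (↥W →* ℂˣ) → ℤ} {η : (↥W →* ℂˣ) → (G → ℂ)}

omit [Fintype G] in
theorem exists_mem_W₁_ne (h : PrimeTIHyp L K W W₁ W₂) : ∃ w ∈ W₁, w ≠ 1 := by
  by_contra hcon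
  push Not at hcon
  exact h.W₁_ne ((Subgroup.eq_bot_iff_forall W₁).mpr hcon)

/-- (4.7)(c): for `j ≠ 0`, `W₂` (hence `H`) is not in the kernel of `μ_ij` restricted to `K`. -/
theorem cfker_prTIres (hP : PrimeTIHyp L K W W₁ W₂) (hμ : PrimeTIFam L K W W₁ W₂ μ δ)
    {ω : ↥W →* ℂˣ} (hω : ω ∉ lin₁ W W₂) : ∃ x : ↥L, (x : G) ∈ W₂ ∧ μ ω x ≠ μ ω 1 := by
  by_contra hcon
  push Not at hcon
  apply hω
  intro w₂ hw₂
  obtain ⟨w₁, hw₁, hw₁1⟩ := exists_mem_W₁_ne hP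
  have hWL := TIFam.W_le hP
  have hW₁W : W₁ ≤ W := by rw [← hP.sup_eq]; exact le_sup_left
  have hw₁W₂ : w₁ ∉ W₂ := fun h => hw₁1 (by
    have : w₁ ∈ K ⊓ W₁ := ⟨hP.W₂_le h, hw₁⟩
    rw [hP.inf_eq] at this
    exact Subgroup.mem_bot.mp this)
  have hprod : (w₂ : G) * w₁ ∉ W₂ := fun h => hw₁W₂ (by
    have := W₂.mul_mem (W₂.inv_mem hw₂) h
    simpa using this)
  have e1 := hμ.eq_on ω ⟨w₁, hW₁W hw₁⟩ (hWL (hW₁W hw₁)) hw₁W₂
  have e2 := hμ.eq_on ω (w₂ * ⟨w₁, hW₁W hw₁⟩) (hWL (w₂ * ⟨w₁, hW₁W hw₁⟩ : ↥W).2) hprod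
  have e3 := char_mul_of_ker (isIrr_isCharacter (hμ.irr ω))
    (hcon ⟨w₂, hWL w₂.2⟩ hw₂) ⟨w₁, hWL (hW₁W hw₁)⟩
  have e4 : (⟨((w₂ * ⟨w₁, hW₁W hw₁⟩ : ↥W) : G), hWL (w₂ * ⟨w₁, hW₁W hw₁⟩ : ↥W).2⟩ : ↥L) =
      (⟨w₂, hWL w₂.2⟩ : ↥L) * ⟨w₁, hWL (hW₁W hw₁)⟩ := rfl
  rw [e4, e3, e1] at e2
  rcases hμ.sign ω with hs | hs
  · rw [hs, map_mul] at e2
    push_cast at e2
    have h0 : ((ω ⟨w₁, hW₁W hw₁⟩ : ℂˣ) : ℂ) ≠ 0 := Units.ne_zero _
    have h5 : ((ω w₂ : ℂˣ) : ℂ) = 1 := by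
      have h6 : ((ω ⟨w₁, hW₁W hw₁⟩ : ℂˣ) : ℂ) * (((ω w₂ : ℂˣ) : ℂ) - 1) = 0 := by
        linear_combination -e2
      rcases mul_eq_zero.mp h6 with h | h
      · exact absurd h h0
      · exact sub_eq_zero.mp h
    exact Units.ext h5
  · rw [hs, map_mul] at e2
    push_cast at e2
    have h0 : ((ω ⟨w₁, hW₁W hw₁⟩ : ℂˣ) : ℂ) ≠ 0 := Units.ne_zero _
    have h5 : ((ω w₂ : ℂˣ) : ℂ) = 1 := by
      have h6 : ((ω ⟨w₁, hW₁W hw₁⟩ : ℂˣ) : ℂ) * (((ω w₂ : ℂˣ) : ℂ) - 1) = 0 := by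
        linear_combination e2
      rcases mul_eq_zero.mp h6 with h | h
      · exact absurd h h0
      · exact sub_eq_zero.mp h
    exact Units.ext h5

/-- The restriction of `μ_ij` (`j ≠ 0`) to `K` does not have `H` in its kernel. -/
theorem exists_H_ne (hD : PrimeDadeHyp L K H A A₀ W W₁ W₂ R)
    (hμ : PrimeTIFam L K W W₁ W₂ μ δ) {ω : ↥W →* ℂˣ} (hω : ω ∉ lin₁ W W₂) :
    ∃ x : ↥(K.subgroupOf L), ((x : ↥L) : G) ∈ H ∧
      (fun k : ↥(K.subgroupOf L) => μ ω k) x ≠ (fun k : ↥(K.subgroupOf L) => μ ω k) 1 := by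
  obtain ⟨x, hx, hne⟩ := cfker_prTIres hD.primeTI hμ hω
  exact ⟨⟨x, hD.primeTI.W₂_le hx⟩, hD.W₂_le hx, hne⟩

/-- (4.7)(d): for `j ≠ 0`, `μ_ij` vanishes on `K \ (A ∪ {1})`. -/
theorem prDade_TIres_on (hD : PrimeDadeHyp L K H A A₀ W W₁ W₂ R)
    (hμ : PrimeTIFam L K W W₁ W₂ μ δ) {ω : ↥W →* ℂˣ} (hω : ω ∉ lin₁ W W₂)
    (x : ↥L) (hxK : (x : G) ∈ K) (hx1 : x ≠ 1) (hxA : (x : G) ∉ A) : μ ω x = 0 :=
  prDade_irr_on hD (hμ.restrict_irr ω) (exists_H_ne hD hμ hω) ⟨x, hxK⟩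
    (fun h => hx1 (congrArg Subtype.val h)) hxA

/-- `μ_j` (`j ≠ 0`) is in the family induced from `K`. -/
theorem prTIred_mem_seqIndOf (hD : PrimeDadeHyp L K H A A₀ W W₁ W₂ R)
    (hμ : PrimeTIFam L K W W₁ W₂ μ δ) {ω : ↥W →* ℂˣ} (hω : ω ∉ lin₁ W W₂) :
    colSum W W₂ μ ω ∈ seqIndOf L K H ⊥ := by
  obtain ⟨x, hx, hne⟩ := exists_H_ne hD hμ hω
  refine ⟨fun k => μ ω k, hμ.restrict_irr ω, ⟨x, hx, hne⟩, ?_, (hμ.ind_restrict ω).symm⟩
  intro y hy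
  have h1 : y = 1 := by
    have h2 : ((y : ↥L) : G) ∈ (⊥ : Subgroup G) := hy
    exact Subtype.ext (Subtype.ext (Subgroup.mem_bot.mp h2))
  rw [h1]

/-- (4.7)(e): for `j ≠ 0`, `μ_j` vanishes off `A ∪ {1}`. -/
theorem prDade_TIred_on (hD : PrimeDadeHyp L K H A A₀ W W₁ W₂ R)
    (hμ : PrimeTIFam L K W W₁ W₂ μ δ) {ω : ↥W →* ℂˣ} (hω : ω ∉ lin₁ W W₂)
    (x : ↥L) (hx1 : x ≠ 1) (hxA : (x : G) ∉ A) : colSum W W₂ μ ω x = 0 :=
  prDade_seqInd_on hD (prTIred_mem_seqIndOf hD hμ hω) x hx1 hxA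

/-- Members of `seqIndOf L K X Y` are irreducible or `μ_j`'s. -/
theorem seqIndOf_cases (hP : PrimeTIHyp L K W W₁ W₂) (hμ : PrimeTIFam L K W W₁ W₂ μ δ)
    {X Y : Subgroup G} {φ : ↥L → ℂ} (hφ : φ ∈ seqIndOf L K X Y) :
    IsIrrCharacter ↥L φ ∨ ∃ ω, φ = colSum W W₂ μ ω := by
  obtain ⟨θ, hθ, -, -, rfl⟩ := hφ
  rcases TIFam.irr_cases hP hμ hθ with ⟨ω, rfl⟩ | h
  · exact Or.inr ⟨ω, hμ.ind_restrict ω⟩
  · exact Or.inl h

/-- (4.8), first part: support. -/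
theorem prDade_sub_TIirr_on (hD : PrimeDadeHyp L K H A A₀ W W₁ W₂ R)
    (hμ : PrimeTIFam L K W W₁ W₂ μ δ) {ω ω' : ↥W →* ℂˣ} (hω : ω ∉ lin₁ W W₂)
    (hω' : ω' ∉ lin₁ W W₂) (hrow : ∀ w : ↥W, (w : G) ∈ W₁ → ω w = ω' w)
    (hdeg : μ ω 1 = μ ω' 1) (x : ↥L) (hx : (x : G) ∉ A₀) : μ ω x = μ ω' x := by
  by_cases hx1 : x = 1
  · rw [hx1, hdeg]
  by_cases hxK : (x : G) ∈ K
  · rw [prDade_TIres_on hD hμ hω x hxK hx1 (fun h => hx (A_subset hD h)),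
      prDade_TIres_on hD hμ hω' x hxK hx1 (fun h => hx (A_subset hD h))]
  · rcases TIFam.conj_to_V_or_W₁ hD.primeTI x x.2 hxK with h | ⟨k, hk, w, hw, hw1, hxe⟩
    · exact absurd (V_subset hD h) hx
    · have hWL := TIFam.W_le hD.primeTI
      have hW₁W : W₁ ≤ W := by rw [← hD.primeTI.sup_eq]; exact le_sup_left
      have hwW₂ : w ∉ W₂ := fun h => hw1 (by
        have : w ∈ K ⊓ W₁ := ⟨hD.primeTI.W₂_le h, hw⟩
        rw [hD.primeTI.inf_eq] at this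
        exact Subgroup.mem_bot.mp this)
      have hxe' : x = (⟨k, hD.primeTI.le hk⟩ : ↥L) * ⟨w, hWL (hW₁W hw)⟩ *
          (⟨k, hD.primeTI.le hk⟩ : ↥L)⁻¹ := Subtype.ext hxe
      rw [hxe', isIrr_isClassFunction (hμ.irr ω), isIrr_isClassFunction (hμ.irr ω')]
      have e1 := hμ.eq_on ω ⟨w, hW₁W hw⟩ (hWL (hW₁W hw)) hwW₂
      have e2 := hμ.eq_on ω' ⟨w, hW₁W hw⟩ (hWL (hW₁W hw)) hwW₂
      rw [e1, e2, TIFam.delta_eq_of_degree_eq hD.primeTI hμ hdeg, hrow ⟨w, hW₁W hw⟩ hw]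

end supp

section iso

/-- The value of an induced function at an element of an abelian subgroup with the TI property. -/
theorem indFun_apply_of_TI {X : Type*} [Group X] [Fintype X] (W : Subgroup X)
    (hcomm : ∀ a ∈ W, ∀ b ∈ W, a * b = b * a) (α : ↥W → ℂ) (v : ↥W)
    (h : ∀ (x : X) (hx : x⁻¹ * v * x ∈ W), α ⟨x⁻¹ * v * x, hx⟩ ≠ 0 → x ∈ W) :
    indFun W α v = α v := by
  classical
  rw [indFun_apply]
  have h1 : ∀ x : X, extendByZero W α (x⁻¹ * v * x) = if x ∈ W then α v else 0 := by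
    intro x
    by_cases hx : x ∈ W
    · rw [if_pos hx]
      have e : x⁻¹ * v * x = v := by
        rw [mul_assoc, hcomm v v.2 x hx, ← mul_assoc, inv_mul_cancel, one_mul]
      rw [e]
      exact IndRes.ext_coe W α v
    · rw [if_neg hx]
      by_cases hx' : x⁻¹ * v * x ∈ W
      · rw [extendByZero_of_mem W α hx']
        by_contra hne
        exact hx (h x hx' hne)
      · exact extendByZero_of_notMem W α hx'
  rw [Finset.sum_congr rfl fun x _ => h1 x, ← Finset.sum_filter, Finset.sum_const, nsmul_eq_mul]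
  have h2 : (Finset.univ.filter fun x : X => x ∈ W).card = Nat.card W := by
    rw [Nat.card_eq_fintype_card, Fintype.card_subtype]
  rw [h2, ← mul_assoc, inv_mul_cancel₀, one_mul]
  exact_mod_cast Nat.card_pos.ne'

variable {G : Type u} [Group G] {L K H W W₁ W₂ : Subgroup G}
  {A A₀ : Set G} {R : G → Subgroup G}

theorem W_comm (h : CyclicTIHyp W W₁ W₂) : ∀ a ∈ W, ∀ b ∈ W, a * b = b * a := by
  intro a ha b hb
  have hcyc : IsCyclic ↥W := by rw [← h.sup_eq]; exact h.selfNormalizing.2.2.2.2.1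
  obtain ⟨g, hg⟩ := hcyc
  obtain ⟨m, hm⟩ := hg ⟨a, ha⟩
  obtain ⟨n, hn⟩ := hg ⟨b, hb⟩
  have h1 : (⟨a, ha⟩ : ↥W) * ⟨b, hb⟩ = ⟨b, hb⟩ * ⟨a, ha⟩ := by
    rw [← hm, ← hn]
    exact (Commute.zpow_zpow_self g m n).eq
  exact congrArg Subtype.val h1

/-- `V` is a TI-set with normaliser `W`. -/
theorem mem_of_conj_mem [Finite G] (h : CyclicTIHyp W W₁ W₂) {g w : G}
    (hw : w ∈ cycTIset W W₁ W₂) (hg : g * w * g⁻¹ ∈ cycTIset W W₁ W₂) : g ∈ W := by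
  obtain ⟨h1, h2, h3⟩ := mem_cycTIset.mp hw
  obtain ⟨h4, h5, h6⟩ := mem_cycTIset.mp hg
  rw [← h.sup_eq] at h1 h4 ⊢
  exact CyclicTI.mem_of_conj_mem h.selfNormalizing h1 h2 h3 h4 h5 h6

/-- `R a = 1` for `a` in the class support of `V`. -/
theorem R_eq_one [Finite G] (hD : PrimeDadeHyp L K H A A₀ W W₁ W₂ R) {a u : G}
    (ha : a ∈ classSupport (cycTIset W W₁ W₂) L) (hu : u ∈ R a) : u = 1 := by
  have haA := V_subset hD ha
  have hc := hD.dade.le_centralizer _ haA hu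
  refine DadeBasic.H_inf_L hD.dade haA hu ?_
  obtain ⟨m, hm, w, hw, rfl⟩ := ha
  obtain ⟨h1, h2, h3⟩ := mem_cycTIset.mp hw
  have hcW : Subgroup.centralizer ({w} : Set G) = W := by
    rw [← hD.cyclicTI.sup_eq]
    exact CyclicTI.centralizer_eq hD.cyclicTI.selfNormalizing
      (by rw [hD.cyclicTI.sup_eq]; exact h1) h2 h3
  rw [Subgroup.mem_centralizer_singleton_iff] at hc
  have hmem : m⁻¹ * u * m ∈ Subgroup.centralizer ({w} : Set G) := by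
    rw [Subgroup.mem_centralizer_singleton_iff]
    calc m⁻¹ * u * m * w = m⁻¹ * (u * (m * w * m⁻¹)) * m := by group
      _ = m⁻¹ * (m * w * m⁻¹ * u) * m := by rw [hc]
      _ = w * (m⁻¹ * u * m) := by group
  rw [hcW] at hmem
  have hmL := TIFam.W_le hD.primeTI hmem
  have : u = m * (m⁻¹ * u * m) * m⁻¹ := by group
  rw [this]
  exact L.mul_mem (L.mul_mem hm hmL) (L.inv_mem hm)

/-- The Dade image agrees with the original function on `V`. -/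
theorem dade_V [Finite G] (hD : PrimeDadeHyp L K H A A₀ W W₁ W₂ R) {α : ↥L → ℂ}
    (hα : IsClassFunction ↥L α) (w : ↥W) (hw₁ : (w : G) ∉ W₁) (hw₂ : (w : G) ∉ W₂)
    (hw : (w : G) ∈ L) : dadeIsometry A₀ L R α w = α ⟨w, hw⟩ :=
  DadeBasic.dadeIsometry_apply hD.dade hα ⟨w, hw⟩
    (V_subset hD (mem_classSupport_self (mem_cycTIset.mpr ⟨w.2, hw₁, hw₂⟩) L))
    (R w).one_mem (x := 1) (by group)

variable [Fintype G] [Fintype ↥L]
  {μ : (↥W →* ℂˣ) → (↥L → ℂ)} {δ : (↥W →* ℂˣ) → ℤ} {η : (↥W →* ℂˣ) → (G → ℂ)}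

omit [Fintype ↥L] in
theorem indFun_W_V (h : CyclicTIHyp W W₁ W₂) (α : ↥W → ℂ)
    (hα : ∀ w : ↥W, (w : G) ∈ W₁ ∨ (w : G) ∈ W₂ → α w = 0) (v : ↥W)
    (hv : (v : G) ∈ cycTIset W W₁ W₂) : indFun W α v = α v := by
  refine indFun_apply_of_TI W (W_comm h) α v ?_
  intro x hx hne
  have h1 : x⁻¹ * v * x⁻¹⁻¹ ∈ cycTIset W W₁ W₂ := by
    rw [inv_inv, mem_cycTIset]
    refine ⟨hx, fun h1 => hne (hα _ (Or.inl h1)), fun h2 => hne (hα _ (Or.inr h2))⟩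
  have := mem_of_conj_mem h hv h1
  have h2 := W.inv_mem this
  rwa [inv_inv] at h2

/-- Dade image of a function of `L` induced from a function of `W` supported in `V`: it is induced
from `W` to `G`. -/
theorem dade_ind_W (hD : PrimeDadeHyp L K H A A₀ W W₁ W₂ R) (α : ↥W → ℂ)
    (hα : ∀ w : ↥W, (w : G) ∈ W₁ ∨ (w : G) ∈ W₂ → α w = 0)
    (β : ↥(W.subgroupOf L) → ℂ)
    (hβ : ∀ (w : ↥(W.subgroupOf L)) (hw : ((w : ↥L) : G) ∈ W), β w = α ⟨_, hw⟩) :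
    dadeIsometry A₀ L R (indFun (W.subgroupOf L) β) = indFun W α := by
  classical
  have hWL := TIFam.W_le hD.primeTI
  have hcl : IsClassFunction ↥L (indFun (W.subgroupOf L) β) := IndRes.isClassFunction_indFun _ _
  funext g
  by_cases hg : ∃ (x : G) (v : ↥W), (v : G) ∈ cycTIset W W₁ W₂ ∧ x * g * x⁻¹ = v
  · obtain ⟨x, v, hv, hxv⟩ := hg
    have hvA : ((⟨v, hWL v.2⟩ : ↥L) : G) ∈ A₀ := V_subset hD (mem_classSupport_self hv L)
    rw [DadeBasic.dadeIsometry_apply hD.dade hcl ⟨v, hWL v.2⟩ hvA (R v).one_mem (x := x)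
      (by rw [hxv, mul_one])]
    have h1 : indFun W α g = indFun W α v := by
      rw [← hxv]
      exact (IndRes.isClassFunction_indFun W α g x).symm
    rw [h1, indFun_W_V hD.cyclicTI α hα v hv]
    have hv' : (⟨v, hWL v.2⟩ : ↥L) ∈ W.subgroupOf L := v.2
    have h2 : indFun (W.subgroupOf L) β ((⟨⟨v, hWL v.2⟩, hv'⟩ : ↥(W.subgroupOf L)) : ↥L) =
        β ⟨⟨v, hWL v.2⟩, hv'⟩ := by
      refine indFun_apply_of_TI (W.subgroupOf L) ?_ β _ ?_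
      · intro a ha b hb
        exact Subtype.ext (W_comm hD.cyclicTI a ha b hb)
      · intro y hy hne
        have hy' : (y : G)⁻¹ * v * y ∈ W := hy
        rw [hβ ⟨_, hy⟩ hy'] at hne
        have h3 : (y : G)⁻¹ * v * (y : G)⁻¹⁻¹ ∈ cycTIset W W₁ W₂ := by
          rw [inv_inv, mem_cycTIset]
          refine ⟨hy, fun h1 => hne (hα _ (Or.inl h1)), fun h2 => hne (hα _ (Or.inr h2))⟩
        have h4 := W.inv_mem (mem_of_conj_mem hD.cyclicTI hv h3)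
        rw [inv_inv] at h4
        exact h4
    have h5 := hβ ⟨⟨v, hWL v.2⟩, hv'⟩ v.2
    rw [h5] at h2
    exact h2
  · push Not at hg
    have h1 : indFun W α g = 0 := by
      refine IndRes.indFun_eq_zero_of_forall_apply W α ?_
      intro x hx
      apply hα
      by_contra hcon
      push Not at hcon
      refine hg x⁻¹ ⟨x⁻¹ * g * x, hx⟩ (mem_cycTIset.mpr ⟨hx, hcon.1, hcon.2⟩) ?_
      rw [inv_inv]
    rw [h1]
    by_cases hs : g ∈ DadeBasic.Supp A₀ R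
    · obtain ⟨a, ha, u, hu, x, hx⟩ := hs
      rw [DadeBasic.dadeIsometry_apply hD.dade hcl ⟨a, hD.dade.subset ha⟩ ha hu hx]
      refine IndRes.indFun_eq_zero_of_forall_apply _ β ?_
      intro y hy
      have hy' : (y : G)⁻¹ * a * y ∈ W := hy
      rw [hβ ⟨_, hy⟩ hy']
      apply hα
      by_contra hcon
      push Not at hcon
      have hv : (y : G)⁻¹ * a * y ∈ cycTIset W W₁ W₂ := mem_cycTIset.mpr ⟨hy, hcon.1, hcon.2⟩
      have haV : a ∈ classSupport (cycTIset W W₁ W₂) L :=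
        ⟨y, y.2, _, hv, by group⟩
      have hu1 := R_eq_one hD haV hu
      refine hg ((y : G)⁻¹ * x) ⟨(y : G)⁻¹ * a * y, hy⟩ hv ?_
      show (y : G)⁻¹ * x * g * ((y : G)⁻¹ * x)⁻¹ = (y : G)⁻¹ * a * y
      rw [hu1, mul_one] at hx
      rw [← hx]; group
    · exact DadeBasic.dadeIsometry_eq_zero hs

/-! ### Integer combinations of members of the family -/

theorem seqInd_isCharacter {X Y : Subgroup G} {φ : ↥L → ℂ} (hφ : φ ∈ seqIndOf L K X Y) :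
    IsCharacter ↥L φ := by
  obtain ⟨θ, hθ, -, -, rfl⟩ := hφ
  exact IndRes.isCharacter_indFun _ (isIrr_isCharacter hθ)

theorem zspanOn_supp (hD : PrimeDadeHyp L K H A A₀ W W₁ W₂ R) {S : Set (↥L → ℂ)}
    (hS : S ⊆ seqIndOf L K H ⊥) {α : ↥L → ℂ} (hα : α ∈ zspanOn S {1}ᶜ) :
    IsGeneralizedCharacter ↥L α ∧ ∀ x : ↥L, (x : G) ∉ A → α x = 0 := by
  refine ⟨gen_of_mem_zspan (fun χ hχ => gen_of_char (seqInd_isCharacter (hS hχ))) hα.1, ?_⟩
  intro x hx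
  by_cases hx1 : x = 1
  · exact hα.2 x (by simp [hx1])
  · have h1 : ∀ β ∈ zspan S, β x = 0 := by
      intro β hβ
      refine zspan_induction (p := fun β => β x = 0) rfl ?_ ?_ ?_ hβ
      · intro χ hχ
        exact prDade_seqInd_on hD (hS hχ) x hx1 hx
      · intro a _ b _ ha hb
        rw [Pi.add_apply, ha, hb, add_zero]
      · intro n a _ ha
        rw [Pi.smul_apply, ha, smul_zero]
    exact h1 α hα.1

/-- The Dade map is a linear isometry on integer combinations, vanishing at `1`, of members of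
`seqIndOf L K H ⊥`, with values generalized characters vanishing at `1`. -/
theorem prDade_isometry (hD : PrimeDadeHyp L K H A A₀ W W₁ W₂ R) {S : Set (↥L → ℂ)}
    (hS : S ⊆ seqIndOf L K H ⊥) :
    IsLinearIsometryOn (zspanOn S {1}ᶜ) (dadeIsometry A₀ L R) ∧
      ∀ α ∈ zspanOn S {1}ᶜ, dadeIsometry A₀ L R α 1 = 0 := by
  have hcf : ∀ α ∈ zspanOn S {1}ᶜ, IsClassFunction ↥L α := fun α hα =>
    gen_isClassFunction (zspanOn_supp hD hS hα).1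
  have hsp : ∀ α ∈ zspanOn S {1}ᶜ, ∀ x : ↥L, (x : G) ∉ A₀ → α x = 0 := fun α hα x hx =>
    (zspanOn_supp hD hS hα).2 x (fun h => hx (A_subset hD h))
  refine ⟨⟨?_, ?_, ?_, ?_⟩, fun α _ => DadeBasic.dadeIsometry_one hD.dade α⟩
  · intro α hα β hβ
    exact DadeBasic.dadeIsometry_add hD.dade (hcf α hα) (hcf β hβ)
  · intro α hα n
    exact DadeBasic.dadeIsometry_zsmul hD.dade (hcf α hα) n
  · intro α hα β hβ
    exact DadeBasic.classInner_dadeIsometry hD.dade (hcf α hα) (hsp α hα) (hcf β hβ)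
  · intro α hα
    exact Cfsg.Agent.S1501.result A₀ L R hD.dade α (zspanOn_supp hD hS hα).1 (hsp α hα)

/-! ### The image of `(φ - φ')(ψ - ψ')` -/

omit [Fintype ↥L] in
theorem ind_alpha (hη : CyclicTIFam W W₁ W₂ η) {φ ψ : ↥W →* ℂˣ} (hφ : φ ∈ lin₁ W W₂)
    (hψ : ψ ∈ lin₁ W W₁) :
    indFun W (fun w => 1 - (φ w : ℂ) - (ψ w : ℂ) + (φ w : ℂ) * (ψ w : ℂ)) =
      η 1 - η φ - η ψ + η (φ * ψ) := by
  by_cases h1 : φ = 1
  · subst h1
    rw [ColSum.lin_one_mul]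
    have : (fun w : ↥W => 1 - (((1 : ↥W →* ℂˣ) w : ℂˣ) : ℂ) - (ψ w : ℂ) +
        (((1 : ↥W →* ℂˣ) w : ℂˣ) : ℂ) * (ψ w : ℂ)) = 0 := by
      funext w; simp
    rw [this, IndRes.indFun_zero]
    abel
  by_cases h2 : ψ = 1
  · subst h2
    rw [ColSum.lin_mul_one]
    have : (fun w : ↥W => 1 - (φ w : ℂ) - (((1 : ↥W →* ℂˣ) w : ℂˣ) : ℂ) +
        (φ w : ℂ) * (((1 : ↥W →* ℂˣ) w : ℂˣ) : ℂ)) = 0 := by
      funext w; simp
    rw [this, IndRes.indFun_zero]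
    abel
  rw [hη.induced_eq φ ψ h1 h2 hφ hψ, hη.map_one]
  rfl

omit [Fintype ↥L] in
/-- The image of `(φ - φ')(ψ - ψ')`. -/
theorem ind_rect (hη : CyclicTIFam W W₁ W₂ η) {φ φ' ψ ψ' : ↥W →* ℂˣ} (hφ : φ ∈ lin₁ W W₂)
    (hφ' : φ' ∈ lin₁ W W₂) (hψ : ψ ∈ lin₁ W W₁) (hψ' : ψ' ∈ lin₁ W W₁) :
    indFun W (fun w => ((φ w : ℂ) - (φ' w : ℂ)) * ((ψ w : ℂ) - (ψ' w : ℂ))) =
      η (φ * ψ) - η (φ * ψ') - η (φ' * ψ) + η (φ' * ψ') := by
  have e : (fun w : ↥W => ((φ w : ℂ) - (φ' w : ℂ)) * ((ψ w : ℂ) - (ψ' w : ℂ))) =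
      (fun w => 1 - (φ w : ℂ) - (ψ w : ℂ) + (φ w : ℂ) * (ψ w : ℂ)) -
      (fun w => 1 - (φ w : ℂ) - (ψ' w : ℂ) + (φ w : ℂ) * (ψ' w : ℂ)) -
      ((fun w => 1 - (φ' w : ℂ) - (ψ w : ℂ) + (φ' w : ℂ) * (ψ w : ℂ)) -
      (fun w => 1 - (φ' w : ℂ) - (ψ' w : ℂ) + (φ' w : ℂ) * (ψ' w : ℂ))) := by
    funext w
    simp only [Pi.sub_apply]
    ring
  rw [e, IndRes.indFun_sub, IndRes.indFun_sub, IndRes.indFun_sub, ind_alpha hη hφ hψ,
    ind_alpha hη hφ hψ', ind_alpha hη hφ' hψ, ind_alpha hη hφ' hψ']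
  abel

/-- The image of `(φ - φ')(ω - ω')` for `ω`, `ω'` in the same row. -/
theorem ind_rect' (hD : CyclicTIHyp W W₁ W₂) (hη : CyclicTIFam W W₁ W₂ η)
    {φ φ' ω ω' : ↥W →* ℂˣ} (hφ : φ ∈ lin₁ W W₂)
    (hφ' : φ' ∈ lin₁ W W₂) (hrow : ∀ w : ↥W, (w : G) ∈ W₁ → ω w = ω' w) :
    indFun W (fun w => ((φ w : ℂ) - (φ' w : ℂ)) * ((ω w : ℂ) - (ω' w : ℂ))) =
      η (φ * ω) - η (φ * ω') - η (φ' * ω) + η (φ' * ω') := by
  have hd := ColSum.isDirect_of_hyp hD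
  obtain ⟨φ₀, hφ₀, ψ, hψ, rfl⟩ := ColSum.exists_lin_mul hd ω
  obtain ⟨φ₁, hφ₁, ψ', hψ', rfl⟩ := ColSum.exists_lin_mul hd ω'
  have h01 : φ₀ = φ₁ := by
    have h1 : φ₀ * φ₁⁻¹ = 1 := by
      refine ColSum.eq_one_of_mem hd (W₁ := W₁) ?_
        (ColSum.mul_mem_lin₁ hφ₀ (ColSum.inv_mem_lin₁ hφ₁))
      rw [ColSum.mul_inv_mem_lin₁]
      intro w hw
      have := hrow w hw
      rw [MonoidHom.mul_apply, MonoidHom.mul_apply, hψ w hw, hψ' w hw, mul_one, mul_one] at this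
      exact this
    have h2 : φ₀ * φ₁⁻¹ * φ₁ = 1 * φ₁ := congrArg (fun z => z * φ₁) h1
    rw [ColSum.lin_inv_mul_cancel_right, ColSum.lin_one_mul] at h2
    exact h2
  subst h01
  have e : (fun w : ↥W => ((φ w : ℂ) - (φ' w : ℂ)) *
      ((((φ₀ * ψ) w : ℂˣ) : ℂ) - (((φ₀ * ψ') w : ℂˣ) : ℂ))) =
      (fun w => ((((φ * φ₀) w : ℂˣ) : ℂ) - (((φ' * φ₀) w : ℂˣ) : ℂ)) *
        ((ψ w : ℂ) - (ψ' w : ℂ))) := by
    funext w
    rw [MonoidHom.mul_apply, MonoidHom.mul_apply, MonoidHom.mul_apply, MonoidHom.mul_apply,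
      Units.val_mul, Units.val_mul, Units.val_mul, Units.val_mul]
    ring
  rw [e, ind_rect hη (ColSum.mul_mem_lin₁ hφ hφ₀) (ColSum.mul_mem_lin₁ hφ' hφ₀) hψ hψ']
  rw [ColSum.lin_mul_assoc φ φ₀ ψ, ColSum.lin_mul_assoc φ φ₀ ψ', ColSum.lin_mul_assoc φ' φ₀ ψ,
    ColSum.lin_mul_assoc φ' φ₀ ψ']

end iso

section sub

theorem zsmul_fun {X : Type*} (d : ℤ) (f : X → ℂ) : d • f = (d : ℂ) • f := by
  funext x
  simp [zsmul_eq_mul]

section core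

variable {G : Type*} [Group G] [Finite G] {W W₁ W₂ : Subgroup G}
  {X : Type*} [Group X] [Fintype X] {f : (↥W →* ℂˣ) → (X → ℂ)}

open ColSum in
/-- The counting argument of (4.8). -/
theorem eq_of_translates (h : IsDirect W W₁ W₂) (hf : ColSum.Orthonormal f)
    (hfg : ∀ ω, IsGeneralizedCharacter X (f ω)) (hcard : 3 ≤ Nat.card W₁)
    {ω ω' : ↥W →* ℂˣ} (hne : ¬ ∀ w : ↥W, (w : G) ∈ W₂ → ω w = ω' w) {d : ℤ}
    (hd : d = 1 ∨ d = -1) (β : (↥W →* ℂˣ) → (X → ℂ))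
    (hβg : ∀ φ ∈ lin₁ W W₂, IsGeneralizedCharacter X (β φ))
    (hβ : ∀ φ ∈ lin₁ W W₂, ∀ φ' ∈ lin₁ W W₂,
      β φ - β φ' = d • (f (φ * ω) - f (φ * ω')) - d • (f (φ' * ω) - f (φ' * ω')))
    (hβn : ∀ φ ∈ lin₁ W W₂, classInner (β φ) (β φ) = 2)
    (φ : ↥W →* ℂˣ) (hφ : φ ∈ lin₁ W W₂) :
    β φ = d • (f (φ * ω) - f (φ * ω')) := by
  classical
  have hd2 : (d : ℂ) * d = 1 := by rcases hd with h | h <;> rw [h] <;> norm_num
  -- the defect
  set D : (↥W →* ℂˣ) → (X → ℂ) := fun φ => d • (f (φ * ω) - f (φ * ω')) with hDdef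
  set γ : X → ℂ := β φ - D φ with hγ
  have hDg : ∀ φ, IsGeneralizedCharacter X (D φ) := fun φ =>
    gen_zsmul _ (gen_sub (hfg _) (hfg _))
  have hγg : IsGeneralizedCharacter X γ := gen_sub (hβg φ hφ) (hDg φ)
  have hβD : ∀ φ' ∈ lin₁ W W₂, β φ' = D φ' + γ := by
    intro φ' hφ'
    have h1 := hβ φ' hφ' φ hφ
    rw [hγ]
    have h2 : β φ' - β φ = D φ' - D φ := h1
    have h3 : β φ' = β φ' - β φ + β φ := by abel
    rw [h3, h2]; abel
  have hneq : ∀ φ₁ ∈ lin₁ W W₂, ∀ φ₂ ∈ lin₁ W W₂, φ₁ * ω ≠ φ₂ * ω' := by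
    intro φ₁ h₁ φ₂ h₂ e
    apply hne
    intro w hw
    have := DFunLike.congr_fun e w
    rw [MonoidHom.mul_apply, MonoidHom.mul_apply, h₁ w hw, h₂ w hw, one_mul, one_mul] at this
    exact this
  have hDn : ∀ φ' ∈ lin₁ W W₂, classInner (D φ') (D φ') = 2 := by
    intro φ' hφ'
    simp only [hDdef]
    rw [classInner_zsmul_left, classInner_zsmul_right, classInner_sub_left, classInner_sub_right,
      classInner_sub_right, inner_self hf, inner_self hf, inner_ne hf (hneq φ' hφ' φ' hφ'),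
      inner_ne hf (hneq φ' hφ' φ' hφ').symm]
    linear_combination 2 * hd2
  obtain ⟨N, hN⟩ := gen_norm hγg
  choose c hc using fun ω => gen_inner hγg (hfg ω)
  -- the coefficients of `γ`
  have hcoef : ∀ φ' ∈ lin₁ W W₂, 2 * d * (c (φ' * ω) - c (φ' * ω')) = -(N : ℤ) := by
    intro φ' hφ'
    have h1 := hβn φ' hφ'
    rw [hβD φ' hφ', classInner_add_left, classInner_add_right, classInner_add_right,
      hDn φ' hφ', gen_inner_comm (hDg φ') hγg, hN] at h1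
    have h2 : classInner γ (D φ') = ((d * (c (φ' * ω) - c (φ' * ω')) : ℤ) : ℂ) := by
      simp only [hDdef]
      rw [classInner_zsmul_right, classInner_sub_right, hc, hc]
      push_cast; ring
    rw [h2] at h1
    have h3 : ((2 * d * (c (φ' * ω) - c (φ' * ω')) : ℤ) : ℂ) = ((-(N : ℤ) : ℤ) : ℂ) := by
      push_cast
      push_cast at h1
      linear_combination h1
    exact_mod_cast h3
  -- Bessel
  have hs₁ : Function.Injective (fun φ : ↥W →* ℂˣ => φ * ω) := by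
    intro a b hab
    have h1 : a * ω * ω⁻¹ = b * ω * ω⁻¹ := congrArg (fun z => z * ω⁻¹) hab
    rwa [lin_mul_inv_cancel_right, lin_mul_inv_cancel_right] at h1
  have hs₂ : Function.Injective (fun φ : ↥W →* ℂˣ => φ * ω') := by
    intro a b hab
    have h1 : a * ω' * ω'⁻¹ = b * ω' * ω'⁻¹ := congrArg (fun z => z * ω'⁻¹) hab
    rwa [lin_mul_inv_cancel_right, lin_mul_inv_cancel_right] at h1
  have hbes := bessel hf hfg hγg hN hc
    ((linFin h).image (fun φ => φ * ω) ∪ (linFin h).image (fun φ => φ * ω'))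
  rw [Finset.sum_union, Finset.sum_image (fun a _ b _ hab => hs₁ hab),
    Finset.sum_image (fun a _ b _ hab => hs₂ hab), ← Finset.sum_add_distrib] at hbes
  · have h1 : ∀ φ' ∈ linFin h, (N : ℤ) ≤ 2 * (c (φ' * ω) ^ 2 + c (φ' * ω') ^ 2) := by
      intro φ' hφ'
      have h2 := hcoef φ' ((mem_linFin h).1 hφ')
      have h3 : ∀ x : ℤ, |x| ≤ x ^ 2 := by
        intro x
        rw [← sq_abs]
        rcases eq_or_ne x 0 with rfl | hx
        · simp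
        · have : 1 ≤ |x| := Int.one_le_abs hx
          nlinarith
      have h4 : (N : ℤ) ≤ 2 * |c (φ' * ω) - c (φ' * ω')| := by
        have h5 : (N : ℤ) = |2 * d * (c (φ' * ω) - c (φ' * ω'))| := by
          rw [h2, abs_neg, abs_of_nonneg (Int.natCast_nonneg N)]
        have h6 : |d| = 1 := by rcases hd with h | h <;> rw [h] <;> norm_num
        rw [h5, abs_mul, abs_mul, h6, mul_one]
        norm_num
      have h7 := abs_sub (c (φ' * ω)) (c (φ' * ω'))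
      have h8 := h3 (c (φ' * ω))
      have h9 := h3 (c (φ' * ω'))
      linarith
    have h2 := Finset.sum_le_sum h1
    rw [Finset.sum_const, card_linFin h, nsmul_eq_mul, ← Finset.mul_sum] at h2
    have h3 : (3 : ℤ) ≤ (Nat.card W₁ : ℤ) := by exact_mod_cast hcard
    have h4 : (0 : ℤ) ≤ (N : ℤ) := Int.natCast_nonneg N
    have h5 : (Nat.card W₁ : ℤ) * N ≤ 2 * N := h2.trans (by linarith)
    have h6 : (N : ℤ) = 0 := by nlinarith
    have h7 : classInner γ γ = 0 := by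
      rw [hN]
      have : N = 0 := by exact_mod_cast h6
      rw [this]; simp
    have h8 := classInner_self_eq_zero h7
    rw [hγ, sub_eq_zero] at h8
    exact h8
  · rw [Finset.disjoint_left]
    intro x hx hx'
    obtain ⟨a, ha, rfl⟩ := Finset.mem_image.1 hx
    obtain ⟨b, hb, hab⟩ := Finset.mem_image.1 hx'
    exact hneq a ((mem_linFin h).1 ha) b ((mem_linFin h).1 hb) hab.symm

end core

variable {G : Type u} [Group G] [Fintype G] {L K H W W₁ W₂ : Subgroup G} [Fintype ↥L]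
  {A A₀ : Set G} {R : G → Subgroup G}
  {μ : (↥W →* ℂˣ) → (↥L → ℂ)} {δ : (↥W →* ℂˣ) → ℤ} {η : (↥W →* ℂˣ) → (G → ℂ)}

theorem three_le_W₁ (h : PrimeTIHyp L K W W₁ W₂) : 3 ≤ Nat.card W₁ := by
  have h1 : W₁ ≤ W := by rw [← h.sup_eq]; exact le_sup_left
  have hodd : Odd (Nat.card W₁) := h.odd.of_dvd_nat (Subgroup.card_dvd_of_le h1)
  have h0 : Nat.card W₁ ≠ 0 := Nat.card_pos.ne'
  have h2 : Nat.card W₁ ≠ 1 := fun h' => h.W₁_ne (Subgroup.card_eq_one.1 h')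
  obtain ⟨k, hk⟩ := hodd
  omega

theorem three_le_W₂ (h : PrimeTIHyp L K W W₁ W₂) : 3 ≤ Nat.card W₂ := by
  have h1 : W₂ ≤ W := by rw [← h.sup_eq]; exact le_sup_right
  have hodd : Odd (Nat.card W₂) := h.odd.of_dvd_nat (Subgroup.card_dvd_of_le h1)
  have h0 : Nat.card W₂ ≠ 0 := Nat.card_pos.ne'
  have h2 : Nat.card W₂ ≠ 1 := fun h' => h.W₂_ne (Subgroup.card_eq_one.1 h')
  obtain ⟨k, hk⟩ := hodd
  omega

theorem mul_notMem_lin₁ {φ ω : ↥W →* ℂˣ} (hφ : φ ∈ lin₁ W W₂) (hω : ω ∉ lin₁ W W₂) :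
    φ * ω ∉ lin₁ W W₂ := by
  intro h
  apply hω
  intro w hw
  have := h w hw
  rwa [MonoidHom.mul_apply, hφ w hw, one_mul] at this

theorem mu_one_mul (hμ : PrimeTIFam L K W W₁ W₂ μ δ) {φ ω : ↥W →* ℂˣ} (hφ : φ ∈ lin₁ W W₂) :
    μ (φ * ω) 1 = μ ω 1 :=
  hμ.restrict_congr _ _ (fun w hw => by rw [MonoidHom.mul_apply, hφ w hw, one_mul]) 1
    K.one_mem

theorem delta_mul (hμ : PrimeTIFam L K W W₁ W₂ μ δ) {φ ω : ↥W →* ℂˣ} (hφ : φ ∈ lin₁ W W₂) :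
    δ (φ * ω) = δ ω :=
  hμ.sign_congr _ _ (fun w hw => by rw [MonoidHom.mul_apply, hφ w hw, one_mul])

/-- (4.8), second part: `τ(μ_ij - μ_ik) = δ_j (η_ij - η_ik)`. -/
theorem prDade_sub_TIirr (hD : PrimeDadeHyp L K H A A₀ W W₁ W₂ R)
    (hμ : PrimeTIFam L K W W₁ W₂ μ δ) (hη : CyclicTIFam W W₁ W₂ η)
    {ω ω' : ↥W →* ℂˣ} (hω : ω ∉ lin₁ W W₂)
    (hω' : ω' ∉ lin₁ W W₂) (hrow : ∀ w : ↥W, (w : G) ∈ W₁ → ω w = ω' w)
    (hdeg : μ ω 1 = μ ω' 1) :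
    dadeIsometry A₀ L R (μ ω - μ ω') = (δ ω : ℂ) • (η ω - η ω') := by
  classical
  have hd := ColSum.isDirect_of_hyp hD.cyclicTI
  by_cases hne : ω = ω'
  · subst hne
    rw [sub_self, sub_self, smul_zero]
    have := DadeBasic.dadeIsometry_smul hD.dade (α := (0 : ↥L → ℂ)) (fun _ _ => rfl) 0
    rwa [zero_smul, zero_smul] at this
  have hnot : ¬ ∀ w : ↥W, (w : G) ∈ W₂ → ω w = ω' w := by
    intro hall
    apply hne
    have h1 : ω * ω'⁻¹ = 1 :=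
      ColSum.eq_one_of_mem hd (ColSum.mul_inv_mem_lin₁.2 hrow) (ColSum.mul_inv_mem_lin₁.2 hall)
    have h2 : ω * ω'⁻¹ * ω' = 1 * ω' := congrArg (fun z => z * ω') h1
    rwa [ColSum.lin_inv_mul_cancel_right, ColSum.lin_one_mul] at h2
  have hδ : δ ω = δ ω' := TIFam.delta_eq_of_degree_eq hD.primeTI hμ hdeg
  set d := δ ω with hddef
  have hds : d = 1 ∨ d = -1 := hμ.sign ω
  have hd2 : (d : ℂ) * d = 1 := by rcases hds with h | h <;> rw [h] <;> norm_num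
  have hcl : ∀ ω, IsClassFunction ↥L (μ ω) := fun ω => isIrr_isClassFunction (hμ.irr ω)
  have hclsub : ∀ φ, IsClassFunction ↥L (μ (φ * ω) - μ (φ * ω')) := fun φ =>
    gen_isClassFunction (gen_sub (gen_of_irr (hμ.irr _)) (gen_of_irr (hμ.irr _)))
  have hsupp : ∀ φ ∈ lin₁ W W₂, ∀ x : ↥L, (x : G) ∉ A₀ → (μ (φ * ω) - μ (φ * ω')) x = 0 := by
    intro φ hφ x hx
    rw [Pi.sub_apply, prDade_sub_TIirr_on hD hμ (mul_notMem_lin₁ hφ hω) (mul_notMem_lin₁ hφ hω')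
      (fun w hw => by rw [MonoidHom.mul_apply, MonoidHom.mul_apply, hrow w hw])
      (by rw [mu_one_mul hμ hφ, mu_one_mul hμ hφ, hdeg]) x hx, sub_self]
  have hmain := eq_of_translates hd (ColSum.orthonormal_of_fam hη) (ColSum.gen_of_fam hη)
    (three_le_W₁ hD.primeTI) hnot hds
    (fun φ => dadeIsometry A₀ L R (μ (φ * ω) - μ (φ * ω'))) ?_ ?_ ?_ 1 ColSum.one_mem_lin₁
  · rw [ColSum.lin_one_mul, ColSum.lin_one_mul] at hmain
    rw [hmain, zsmul_fun]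
  · intro φ hφ
    exact Cfsg.Agent.S1501.result A₀ L R hD.dade _
      (gen_sub (gen_of_irr (hμ.irr _)) (gen_of_irr (hμ.irr _))) (hsupp φ hφ)
  · intro φ hφ φ' hφ'
    rw [← DadeBasic.dadeIsometry_sub hD.dade (hclsub φ) (hclsub φ')]
    -- the difference is induced from `W`
    have key : ∀ ω, ∀ φ ∈ lin₁ W W₂, ∀ φ' ∈ lin₁ W W₂,
        μ (φ * ω) - μ (φ' * ω) = (δ ω : ℂ) • indFun (W.subgroupOf L)
          (fun w : ↥(W.subgroupOf L) => (((φ * ω) ⟨((w : ↥L) : G), w.2⟩ : ℂˣ) : ℂ) -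
            (((φ' * ω) ⟨((w : ↥L) : G), w.2⟩ : ℂˣ) : ℂ)) := by
      intro ω φ hφ φ' hφ'
      have h1 := hμ.ind_sub (φ * ω) (φ' * ω) (fun w hw => by
        rw [MonoidHom.mul_apply, MonoidHom.mul_apply, hφ w hw, hφ' w hw])
        (fun w : ↥(W.subgroupOf L) => (((φ * ω) ⟨((w : ↥L) : G), w.2⟩ : ℂˣ) : ℂ) -
            (((φ' * ω) ⟨((w : ↥L) : G), w.2⟩ : ℂˣ) : ℂ)) (fun w hw => rfl)
      rw [h1, delta_mul hμ hφ, smul_smul]
      have h2 : (δ ω : ℂ) * δ ω = 1 := by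
        rcases hμ.sign ω with h | h <;> rw [h] <;> norm_num
      rw [h2, one_smul]
    have e1 : μ (φ * ω) - μ (φ * ω') - (μ (φ' * ω) - μ (φ' * ω')) =
        (d : ℂ) • indFun (W.subgroupOf L) (fun w : ↥(W.subgroupOf L) =>
          ((φ ⟨((w : ↥L) : G), w.2⟩ : ℂ) - (φ' ⟨((w : ↥L) : G), w.2⟩ : ℂ)) *
          ((ω ⟨((w : ↥L) : G), w.2⟩ : ℂ) - (ω' ⟨((w : ↥L) : G), w.2⟩ : ℂ))) := by
      have e2 : μ (φ * ω) - μ (φ * ω') - (μ (φ' * ω) - μ (φ' * ω')) =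
        μ (φ * ω) - μ (φ' * ω) - (μ (φ * ω') - μ (φ' * ω')) := by abel
      rw [e2, key ω φ hφ φ' hφ', key ω' φ hφ φ' hφ', ← hδ, ← smul_sub, ← IndRes.indFun_sub]
      congr 2
      funext w
      simp only [Pi.sub_apply, MonoidHom.mul_apply, Units.val_mul]
      ring
    rw [e1, DadeBasic.dadeIsometry_smul hD.dade (IndRes.isClassFunction_indFun _ _),
      dade_ind_W hD (fun w => ((φ w : ℂ) - (φ' w : ℂ)) * ((ω w : ℂ) - (ω' w : ℂ))) ?_ _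
        (fun w hw => rfl), ind_rect' hD.cyclicTI hη hφ hφ' hrow]
    · rw [zsmul_fun, zsmul_fun]
      funext x
      simp only [Pi.smul_apply, Pi.sub_apply, Pi.add_apply, smul_eq_mul]
      ring
    · intro w hw
      rcases hw with hw | hw
      · rw [hrow w hw, sub_self, mul_zero]
      · rw [hφ w hw, hφ' w hw, sub_self, zero_mul]
  · intro φ hφ
    rw [DadeBasic.classInner_dadeIsometry hD.dade (hclsub φ) (hsupp φ hφ) (hclsub φ),
      classInner_sub_left, classInner_sub_right, classInner_sub_right,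
      classInner_irr_self (hμ.irr _), classInner_irr_self (hμ.irr _)]
    have hneq : φ * ω ≠ φ * ω' := by
      intro e
      apply hnot
      intro w hw
      have := DFunLike.congr_fun e w
      rw [MonoidHom.mul_apply, MonoidHom.mul_apply, hφ w hw, one_mul, one_mul] at this
      exact this
    rw [classInner_irr_ne (hμ.irr _) (hμ.irr _) (fun e => hneq (hμ.injective e)),
      classInner_irr_ne (hμ.irr _) (hμ.irr _) (fun e => hneq (hμ.injective e.symm))]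
    norm_num

theorem dadeIsometry_zero {A : Set G} (hD : DadeHypothesis A L R) :
    dadeIsometry A L R (0 : ↥L → ℂ) = 0 := by
  have := DadeBasic.dadeIsometry_smul hD (α := (0 : ↥L → ℂ)) (fun _ _ => rfl) 0
  rwa [zero_smul, zero_smul] at this

theorem dadeIsometry_sum {A : Set G} (hD : DadeHypothesis A L R) {ι : Type*} (s : Finset ι)
    (f : ι → ↥L → ℂ) (hf : ∀ i ∈ s, IsClassFunction ↥L (f i)) :
    dadeIsometry A L R (∑ i ∈ s, f i) = ∑ i ∈ s, dadeIsometry A L R (f i) := by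
  classical
  induction s using Finset.induction_on with
  | empty => simpa using dadeIsometry_zero hD
  | insert a s ha ih =>
    have h1 : IsClassFunction ↥L (∑ i ∈ s, f i) := by
      intro x y
      rw [Finset.sum_apply, Finset.sum_apply]
      exact Finset.sum_congr rfl fun i hi => hf i (Finset.mem_insert_of_mem hi) x y
    rw [Finset.sum_insert ha, Finset.sum_insert ha,
      DadeBasic.dadeIsometry_add hD (hf a (Finset.mem_insert_self a s)) h1,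
      ih fun i hi => hf i (Finset.mem_insert_of_mem hi)]

/-- (4.9): `τ(μ_j - μ_k) = δ_j (∑ η_ij - ∑ η_ik)`. -/
theorem prDade_sub_TIred (hD : PrimeDadeHyp L K H A A₀ W W₁ W₂ R)
    (hμ : PrimeTIFam L K W W₁ W₂ μ δ) (hη : CyclicTIFam W W₁ W₂ η)
    {ω ω' : ↥W →* ℂˣ} (hω : ω ∉ lin₁ W W₂) (hω' : ω' ∉ lin₁ W W₂) (hdeg : μ ω 1 = μ ω' 1) :
    dadeIsometry A₀ L R (colSum W W₂ μ ω - colSum W W₂ μ ω') =
      (δ ω : ℂ) • (colSum W W₂ η ω - colSum W W₂ η ω') := by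
  classical
  have hd := ColSum.isDirect_of_hyp hD.cyclicTI
  obtain ⟨φ₀, hφ₀, ψ, hψ, rfl⟩ := ColSum.exists_lin_mul hd ω
  obtain ⟨φ₁, hφ₁, ψ', hψ', rfl⟩ := ColSum.exists_lin_mul hd ω'
  have hψn : ψ ∉ lin₁ W W₂ := fun h => hω (ColSum.mul_mem_lin₁ hφ₀ h)
  have hψn' : ψ' ∉ lin₁ W W₂ := fun h => hω' (ColSum.mul_mem_lin₁ hφ₁ h)
  rw [mu_one_mul hμ hφ₀, mu_one_mul hμ hφ₁] at hdeg
  rw [ColSum.colSum_mul_of_mem hφ₀, ColSum.colSum_mul_of_mem hφ₁, ColSum.colSum_mul_of_mem hφ₀,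
    ColSum.colSum_mul_of_mem hφ₁, delta_mul hμ hφ₀, ColSum.colSum_eq_sum hd,
    ColSum.colSum_eq_sum hd, ColSum.colSum_eq_sum hd, ColSum.colSum_eq_sum hd,
    ← Finset.sum_sub_distrib, ← Finset.sum_sub_distrib, Finset.smul_sum,
    dadeIsometry_sum hD.dade]
  · refine Finset.sum_congr rfl fun φ hφ => ?_
    have hφ' := (ColSum.mem_linFin hd).1 hφ
    rw [prDade_sub_TIirr hD hμ hη (mul_notMem_lin₁ hφ' hψn) (mul_notMem_lin₁ hφ' hψn') ?_ ?_,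
      delta_mul hμ hφ']
    · intro w hw
      rw [MonoidHom.mul_apply, MonoidHom.mul_apply, hψ w hw, hψ' w hw]
    · rw [mu_one_mul hμ hφ', mu_one_mul hμ hφ', hdeg]
  · intro φ _
    exact gen_isClassFunction (gen_sub (gen_of_irr (hμ.irr _)) (gen_of_irr (hμ.irr _)))

section uniform

variable {M : Type*} [Group M] [Fintype M] {S : Set (M → ℂ)} {τ τ₁ : (M → ℂ) → (G → ℂ)}

/-- If all members of `S` have the same nonzero degree, agreement of an isometry `τ₁` with `τ` on the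
differences `χ - χ₀` gives agreement on all combinations vanishing at `1`. -/
theorem agree_of_sub {χ₀ : M → ℂ} (hχ₀ : χ₀ ∈ S) (h0 : χ₀ 1 ≠ 0)
    (hdeg : ∀ χ ∈ S, χ 1 = χ₀ 1) (h₁ : IsLinearIsometryOn (zspan S) τ₁)
    (hadd : ∀ α ∈ zspanOn S {1}ᶜ, ∀ β ∈ zspanOn S {1}ᶜ, τ (α + β) = τ α + τ β)
    (hsmul : ∀ α ∈ zspanOn S {1}ᶜ, ∀ n : ℤ, τ (n • α) = n • τ α)
    (h : ∀ χ ∈ S, τ (χ - χ₀) = τ₁ χ - τ₁ χ₀) :
    ∀ α ∈ zspanOn S {1}ᶜ, τ₁ α = τ α := by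
  have hz₀ := zspan_subset hχ₀
  have key : ∀ α ∈ zspan S, ∃ n : ℤ, α 1 = n * χ₀ 1 ∧ α - n • χ₀ ∈ zspanOn S {1}ᶜ ∧
      τ (α - n • χ₀) = τ₁ α - n • τ₁ χ₀ := by
    intro α hα
    refine zspan_induction (p := fun α => ∃ n : ℤ, α 1 = n * χ₀ 1 ∧
      α - n • χ₀ ∈ zspanOn S {1}ᶜ ∧ τ (α - n • χ₀) = τ₁ α - n • τ₁ χ₀) ?_ ?_ ?_ ?_ hα
    · refine ⟨0, by simp, by rw [zero_smul, sub_zero]; exact zspanOn_zero, ?_⟩
      rw [zero_smul, sub_zero, zero_smul, sub_zero, span_zero h₁]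
      have := hsmul 0 zspanOn_zero 0
      simpa using this
    · intro χ hχ
      refine ⟨1, by rw [hdeg χ hχ]; simp, ?_, ?_⟩
      · rw [one_smul, mem_zspanOn_one_iff]
        exact ⟨zspan_sub (zspan_subset hχ) hz₀, by rw [Pi.sub_apply, hdeg χ hχ, sub_self]⟩
      · rw [one_smul, one_smul, h χ hχ]
    · rintro α hα β hβ ⟨n, hn, hnm, hnτ⟩ ⟨m, hm, hmm, hmτ⟩
      have e : α + β - (n + m) • χ₀ = (α - n • χ₀) + (β - m • χ₀) := by
        rw [add_smul]; abel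
      refine ⟨n + m, ?_, ?_, ?_⟩
      · rw [Pi.add_apply, hn, hm]; push_cast; ring
      · rw [e]; exact zspanOn_add hnm hmm
      · rw [e, hadd _ hnm _ hmm, hnτ, hmτ, lin_add h₁ hα hβ, add_smul]; abel
    · rintro k α hα ⟨n, hn, hnm, hnτ⟩
      have e : k • α - (k * n) • χ₀ = k • (α - n • χ₀) := by
        rw [smul_sub, mul_smul]
      refine ⟨k * n, ?_, ?_, ?_⟩
      · rw [Pi.smul_apply, hn, zsmul_eq_mul]; push_cast; ring
      · rw [e]; exact zspanOn_zsmul k hnm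
      · rw [e, hsmul _ hnm, hnτ, lin_zsmul h₁ hα, smul_sub, mul_smul]
  intro α hα
  rw [mem_zspanOn_one_iff] at hα
  obtain ⟨n, hn, -, hτ⟩ := key α hα.1
  have hn0 : n = 0 := by
    rw [hα.2] at hn
    rcases mul_eq_zero.mp hn.symm with h | h
    · exact_mod_cast h
    · exact absurd h h0
  rw [hn0, zero_smul, sub_zero, zero_smul, sub_zero] at hτ
  exact hτ.symm

end uniform

/-- (4.9): coherence of the `μ_j` of a given degree. -/
theorem uniform_prTIred_coherent (hD : PrimeDadeHyp L K H A A₀ W W₁ W₂ R)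
    (hμ : PrimeTIFam L K W W₁ W₂ μ δ) (hη : CyclicTIFam W W₁ W₂ η)
    {ω₀ : ↥W →* ℂˣ} (hω₀ : ω₀ ∉ lin₁ W W₂) :
    ∃ τ₁ : (↥L → ℂ) → (G → ℂ),
      IsLinearIsometryOn
        (zspan {φ | ∃ ω, ω ∉ lin₁ W W₂ ∧ μ ω 1 = μ ω₀ 1 ∧ φ = colSum W W₂ μ ω}) τ₁ ∧
      (∀ ω, ω ∉ lin₁ W W₂ → μ ω 1 = μ ω₀ 1 →
        τ₁ (colSum W W₂ μ ω) = (δ ω : ℂ) • colSum W W₂ η ω) ∧
      (∀ α ∈ zspanOn {φ | ∃ ω, ω ∉ lin₁ W W₂ ∧ μ ω 1 = μ ω₀ 1 ∧ φ = colSum W W₂ μ ω} {1}ᶜ,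
        τ₁ α = dadeIsometry A₀ L R α) := by
  classical
  have hd := ColSum.isDirect_of_hyp hD.cyclicTI
  haveI := ColSum.finite_lin hd
  set T : Set (↥L → ℂ) := {φ | ∃ ω, ω ∉ lin₁ W W₂ ∧ μ ω 1 = μ ω₀ 1 ∧ φ = colSum W W₂ μ ω} with hT
  have hTfin : T.Finite := by
    refine (Set.finite_range (fun ω => colSum W W₂ μ ω)).subset ?_
    rintro φ ⟨ω, -, -, rfl⟩
    exact ⟨ω, rfl⟩
  have hP := hD.primeTI
  have hon := ColSum.orthonormal_of_fam hη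
  have hmem : ∀ ω, ω ∉ lin₁ W W₂ → μ ω 1 = μ ω₀ 1 → colSum W W₂ μ ω ∈ T := fun ω h1 h2 =>
    ⟨ω, h1, h2, rfl⟩
  have hdel : ∀ ω, μ ω 1 = μ ω₀ 1 → δ ω = δ ω₀ := fun ω h =>
    TIFam.delta_eq_of_degree_eq hP hμ h
  -- the images
  have hex : ∀ φ ∈ T, ∃ ω, ω ∉ lin₁ W W₂ ∧ μ ω 1 = μ ω₀ 1 ∧ φ = colSum W W₂ μ ω := fun φ h => h
  let f : (↥L → ℂ) → (G → ℂ) := fun φ =>
    if h : φ ∈ T then (δ ω₀ : ℂ) • colSum W W₂ η (hex φ h).choose else 0
  have hf : ∀ ω, ω ∉ lin₁ W W₂ → μ ω 1 = μ ω₀ 1 →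
      f (colSum W W₂ μ ω) = (δ ω : ℂ) • colSum W W₂ η ω := by
    intro ω h1 h2
    have h3 := hmem ω h1 h2
    have h4 : f (colSum W W₂ μ ω) = (δ ω₀ : ℂ) • colSum W W₂ η (hex _ h3).choose := dif_pos h3
    rw [h4, hdel ω h2]
    congr 1
    have h5 := (hex _ h3).choose_spec.2.2
    exact ColSum.colSum_congr fun w hw =>
      ((TIFam.colSum_mu_eq_iff hP hμ _ _).1 h5 w hw).symm
  have hs1 : ∀ χ ∈ hTfin.toFinset, χ ≠ 0 := by
    intro χ hχ h0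
    obtain ⟨ω, h1, h2, rfl⟩ := (Set.Finite.mem_toFinset hTfin).1 hχ
    have h3 := congrFun h0 1
    rw [TIFam.colSum_mu_on hP hμ ω 1 K.one_mem] at h3
    exact mul_ne_zero (by exact_mod_cast Nat.card_pos.ne')
          (isIrr_apply_one_ne_zero (hμ.irr ω)) h3
  have hs2 : ∀ χ ∈ hTfin.toFinset, ∀ φ ∈ hTfin.toFinset, χ ≠ φ → classInner χ φ = 0 := by
    intro χ hχ χ' hχ' hne
    obtain ⟨ω, h1, h2, rfl⟩ := (Set.Finite.mem_toFinset hTfin).1 hχ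
    obtain ⟨ω', h1', h2', rfl⟩ := (Set.Finite.mem_toFinset hTfin).1 hχ'
    rw [TIFam.inner_colSum_colSum hP hμ, if_neg]
    intro h
    exact hne ((TIFam.colSum_mu_eq_iff hP hμ _ _).2 h)
  have hs3 : ∀ χ ∈ hTfin.toFinset, IsGeneralizedCharacter G (f χ) := by
    intro χ hχ
    obtain ⟨ω, h1, h2, rfl⟩ := (Set.Finite.mem_toFinset hTfin).1 hχ
    rw [hf ω h1 h2]
    exact gen_intCast_smul _ (ColSum.gen_colSum hd (ColSum.gen_of_fam hη) ω)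
  have hs4 : ∀ χ ∈ hTfin.toFinset, ∀ φ ∈ hTfin.toFinset,
      classInner (f χ) (f φ) = classInner χ φ := by
    intro χ hχ χ' hχ'
    obtain ⟨ω, h1, h2, rfl⟩ := (Set.Finite.mem_toFinset hTfin).1 hχ
    obtain ⟨ω', h1', h2', rfl⟩ := (Set.Finite.mem_toFinset hTfin).1 hχ'
    rw [hf ω h1 h2, hf ω' h1' h2', TIFam.inner_colSum_colSum hP hμ, classInner_smul_left,
      classInner_smul_right, ColSum.inner_colSum_colSum hd hon, hdel ω h2, hdel ω' h2']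
    have h3 : (δ ω₀ : ℂ) * (starRingEnd ℂ) (δ ω₀ : ℂ) = 1 := by
      rcases hμ.sign ω₀ with h | h <;> rw [h] <;> simp
    rw [← mul_assoc, h3, one_mul]
    split_ifs <;> rfl
  obtain ⟨τ₁, hτ₁, hτf⟩ := exists_isometry_extending hs1 hs2 f hs3 hs4
  rw [Set.Finite.coe_toFinset] at hτ₁
  refine ⟨τ₁, hτ₁, ?_, ?_⟩
  · intro ω h1 h2
    rw [hτf _ ((Set.Finite.mem_toFinset hTfin).2 (hmem ω h1 h2)), hf ω h1 h2]
  · have hTS : T ⊆ seqIndOf L K H ⊥ := by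
      rintro φ ⟨ω, h1, -, rfl⟩
      exact prTIred_mem_seqIndOf hD hμ h1
    have hiso := (prDade_isometry hD hTS).1
    refine agree_of_sub (hmem ω₀ hω₀ rfl) ?_ ?_ hτ₁ hiso.1 hiso.2.1 ?_
    · rw [TIFam.colSum_mu_on hP hμ ω₀ 1 K.one_mem]
      exact mul_ne_zero (by exact_mod_cast Nat.card_pos.ne')
        (isIrr_apply_one_ne_zero (hμ.irr ω₀))
    · rintro χ ⟨ω, h1, h2, rfl⟩
      rw [TIFam.colSum_mu_on hP hμ ω₀ 1 K.one_mem, TIFam.colSum_mu_on hP hμ ω 1 K.one_mem, h2]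
    · rintro χ ⟨ω, h1, h2, rfl⟩
      rw [prDade_sub_TIred hD hμ hη h1 hω₀ h2,
        hτf _ ((Set.Finite.mem_toFinset hTfin).2 (hmem ω h1 h2)), hf ω h1 h2,
        hτf _ ((Set.Finite.mem_toFinset hTfin).2 (hmem ω₀ hω₀ rfl)), hf ω₀ hω₀ rfl,
        hdel ω h2, smul_sub]

end sub

end Cfsg.Agent.OddOrderCharacters.PF4b.Prime
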