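import Cfsg.Agent.OddOrderCharacters.PF4b.Subcoherent
import Cfsg.Agent.OddOrderCharacters.PF5Gal
import Cfsg.Agent.OddOrderCharacters.CoherenceStep

/-!
# Peterfalvi (5.8), (5.9)
-/

set_option autoImplicit false

open scoped ComplexConjugate
open Cfsg Cfsg.Agent.OddOrderCharacters.PFDefs Cfsg.Agent.OddOrderCharacters.Galois
open Cfsg.Agent.Characters.Core
open Cfsg.Agent.OddOrderCharacters.PF4b.Subcoherent

universe u v

namespace Cfsg.Agent.OddOrderCharacters.PF4b.CohExt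

variable {G : Type u} [Group G] [Fintype G] {L K H W W₁ W₂ : Subgroup G} [Fintype ↥L]
  {A A₀ : Set G} {R : G → Subgroup G}
  {μ : (↥W →* ℂˣ) → (↥L → ℂ)} {δ : (↥W →* ℂˣ) → ℤ} {η : (↥W →* ℂˣ) → (G → ℂ)}

/-- Images of irreducible members under a coherent extension are orthogonal to the `η ω`. -/
theorem coherent_ortho_cycTIiso (hD : PrimeDadeHyp L K H A A₀ W W₁ W₂ R)
    (hη : CyclicTIFam W W₁ W₂ η)
    (hodd : Odd (Nat.card L)) {S : Set (↥L → ℂ)} (hS : S ⊆ seqIndOf L K H ⊥)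
    (hconj : ∀ χ ∈ S, conjFun χ ∈ S) {τ₁ : (↥L → ℂ) → (G → ℂ)}
    (hiso : IsLinearIsometryOn (zspan S) τ₁)
    (hext : ∀ α ∈ zspanOn S {1}ᶜ, τ₁ α = dadeIsometry A₀ L R α)
    {ζ : ↥L → ℂ} (hζ : ζ ∈ S) (hirr : IsIrrCharacter ↥L ζ) (ω : ↥W →* ℂˣ) :
    classInner (τ₁ ζ) (η ω) = 0 := by
  have hne := conj_ne_irr hodd (hS hζ) hirr
  have z1 := CoherenceBasic.mem_zspan hζ
  have z2 := CoherenceBasic.mem_zspan (hconj ζ hζ)
  have hmem : ζ - conjFun ζ ∈ zspanOn S {1}ᶜ := by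
    rw [VChar.mem_zspanOn_one_iff]
    refine ⟨VChar.zspan_sub z1 z2, ?_⟩
    obtain ⟨n, -, hn⟩ := isIrr_apply_one hirr
    rw [Pi.sub_apply, VChar.conjFun_apply, hn]
    simp
  have h1 := dade_sub_conj_ortho hD hη hirr (hS hζ) ω
  rw [← hext _ hmem, CoherenceBasic.isom_sub hiso z1 z2, classInner_sub_left] at h1
  by_contra h0
  have h2 : classInner (τ₁ (conjFun ζ)) (η ω) = 0 := by
    have h3 : classInner (τ₁ (conjFun ζ)) (τ₁ ζ) = 0 := by
      rw [CoherenceBasic.isom_inner hiso z2 z1]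
      exact classInner_irr_ne (VChar.isIrr_conjFun hirr) hirr hne
    rcases PF3b.eq_or_eq_neg hη (CoherenceBasic.isom_irr hiso z1 hirr) h0 with h5 | h5
    · rw [← h5]; exact h3
    · have h6 : η ω = -τ₁ ζ := by rw [h5, neg_neg]
      rw [h6, classInner_neg_right, h3, neg_zero]
  rw [h2, sub_zero] at h1
  exact h0 h1

/-- (5.8) -/
theorem coherent_prDade_TIred (hD : PrimeDadeHyp L K H A A₀ W W₁ W₂ R)
    (hμ : PrimeTIFam L K W W₁ W₂ μ δ) (hη : CyclicTIFam W W₁ W₂ η)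
    (hodd : Odd (Nat.card L)) {S : Set (↥L → ℂ)} (hS : S ⊆ seqIndOf L K H ⊥)
    (hconj : ∀ χ ∈ S, conjFun χ ∈ S) {τ₁ : (↥L → ℂ) → (G → ℂ)}
    (hiso : IsLinearIsometryOn (zspan S) τ₁)
    (hext : ∀ α ∈ zspanOn S {1}ᶜ, τ₁ α = dadeIsometry A₀ L R α)
    (hirr : ∃ ζ ∈ S, IsIrrCharacter ↥L ζ) {ω : ↥W →* ℂˣ} (hω : colSum W W₂ μ ω ∈ S) :
    τ₁ (colSum W W₂ μ ω) = (δ ω : ℂ) • colSum W W₂ η ω ∨
      τ₁ (colSum W W₂ μ ω) = -((δ ω : ℂ) • colSum W W₂ η ω⁻¹) := by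
  classical
  obtain ⟨ζ, hζ, hζi⟩ := hirr
  have hP := hD.primeTI
  have hω₁ : ω ∉ lin₁ W W₂ := notMem_lin₁ hP hμ (hS hω)
  have hω₁' : ω⁻¹ ∉ lin₁ W W₂ := by
    intro h
    apply hω₁
    intro w hw
    have := h w hw
    rwa [MonoidHom.inv_apply, inv_eq_one] at this
  obtain ⟨Rf, hsys, -, hRf⟩ := prDade_subcoherent hD hμ hη hodd hS ⟨ζ, hζ⟩ hconj
  have hR : Rf (colSum W W₂ μ ω) = colR W W₂ δ η ω := by
    ext α
    rw [hRf ω hω, mem_colR hP]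
  set ξ := colSum W W₂ μ ω with hξ
  have zξ := CoherenceBasic.mem_zspan hω
  have zζ := CoherenceBasic.mem_zspan hζ
  have hξd : ξ - conjFun ξ ∈ zspanOn S {1}ᶜ := by
    obtain ⟨d, hd⟩ := CoherenceStep.exists_degree hsys hω
    exact CoherenceStep.conj_sub_mem hsys hd hω (hconj ξ hω)
  obtain ⟨hproj, h01⟩ := CoherenceStep.map_eq_proj hsys hω hω (hconj ξ hω) hiso (hext _ hξd)
  rw [hR] at hproj h01
  set θ := τ₁ ξ with hθ
  have hθg : IsGeneralizedCharacter G θ := CoherenceBasic.isom_gen hiso zξ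
  -- coefficients
  have hoff : ∀ ω' : ↥W →* ℂˣ, (¬ ∀ w : ↥W, (w : G) ∈ W₂ → ω w = ω' w) →
      (¬ ∀ w : ↥W, (w : G) ∈ W₂ → ω⁻¹ w = ω' w) → classInner θ (η ω') = 0 := by
    intro ω' h1 h2
    rw [hproj]
    show classInner (∑ α ∈ colR W W₂ δ η ω, classInner θ α • α) (η ω') = 0
    rw [classInner_sum_left]
    apply Finset.sum_eq_zero
    intro α hα
    rw [classInner_smul_left]
    obtain ⟨φ, hφ, rfl | rfl⟩ := (mem_colR hP).mp hα
    · have h3 := PF3b.eta_orth hη (ne_of_ne_on hφ (PF3bLin.one_mem (W₂ := W₂)) h1)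
      rw [show (1 : ↥W →* ℂˣ) * ω' = ω' from one_mul ω'] at h3
      rw [classInner_smul_left, h3, mul_zero, mul_zero]
    · have h3 := PF3b.eta_orth hη (ne_of_ne_on hφ (PF3bLin.one_mem (W₂ := W₂)) h2)
      rw [show (1 : ↥W →* ℂˣ) * ω' = ω' from one_mul ω'] at h3
      rw [classInner_neg_left, classInner_smul_left, h3, mul_zero, neg_zero, mul_zero]
  -- the rectangle rule makes the columns constant
  obtain ⟨d, hd⟩ := CoherenceStep.exists_degree hsys hω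
  obtain ⟨e, he0, he⟩ := isIrr_apply_one hζi
  have hcross : (e : ℤ) • ξ - (d : ℤ) • ζ ∈ zspanOn S {1}ᶜ :=
    CoherenceBasic.zspanOn_cross zξ zζ (by rw [hd]; norm_cast) (by rw [he]; norm_cast)
  have hτc : τ₁ ((e : ℤ) • ξ - (d : ℤ) • ζ) = (e : ℤ) • θ - (d : ℤ) • τ₁ ζ := by
    rw [CoherenceBasic.isom_sub hiso (CoherenceBasic.zspan_zsmul _ zξ)
      (CoherenceBasic.zspan_zsmul _ zζ), CoherenceBasic.isom_zsmul hiso _ zξ,
      CoherenceBasic.isom_zsmul hiso _ zζ]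
  set Θ : G → ℂ := (e : ℤ) • θ - (d : ℤ) • τ₁ ζ with hΘ
  have hΘg : IsGeneralizedCharacter G Θ :=
    VChar.gen_sub (VChar.gen_zsmul _ hθg)
      (VChar.gen_zsmul _ (CoherenceBasic.isom_gen hiso zζ))
  have hΘV : ∀ v ∈ cycTIset W W₁ W₂, Θ v = 0 := by
    intro v hv
    rw [← hτc, hext _ hcross]
    exact dade_vanish_V hD hS hcross hv
  have hΘi : ∀ ω', classInner Θ (η ω') = (e : ℂ) * classInner θ (η ω') := by
    intro ω'
    rw [hΘ, classInner_sub_left, CoherenceBasic.classInner_zsmul_left,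
      CoherenceBasic.classInner_zsmul_left,
      coherent_ortho_cycTIiso hD hη hodd hS hconj hiso hext hζ hζi ω', mul_zero, sub_zero]
    norm_cast
  have he0' : (e : ℂ) ≠ 0 := by exact_mod_cast he0.ne'
  have hconst : ∀ ω' : ↥W →* ℂˣ, ω' ∉ lin₁ W W₂ → ∀ φ ∈ lin₁ W W₂,
      classInner θ (η (φ * ω')) = classInner θ (η ω') := by
    intro ω' hω' φ hφ
    obtain ⟨φ₀, hφ₀, ψ₀, hψ₀, rfl⟩ := PF3bLin.exists_mul_eq hD.cyclicTI ω'
    have h1 := PF3b.coeff_exchange hη (VChar.gen_isClassFunction hΘg) hΘV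
      (PF3bLin.mul_mem hφ hφ₀) hφ₀ hψ₀ (PF3bLin.one_mem (W₂ := W₁))
    have hz : ∀ φ' ∈ lin₁ W W₂, classInner θ (η (φ' * 1)) = 0 := by
      intro φ' hφ'
      have e1 : (φ' * 1 : ↥W →* ℂˣ) = φ' := mul_one φ'
      rw [e1]
      apply hoff
      · intro h
        exact hω₁ (fun w hw => (h w hw).trans (hφ' w hw))
      · intro h
        exact hω₁' (fun w hw => (h w hw).trans (hφ' w hw))
    rw [hΘi, hΘi, hΘi, hΘi, hz _ hφ₀, hz _ (PF3bLin.mul_mem hφ hφ₀), mul_zero, add_zero,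
      zero_add] at h1
    have h2 := mul_left_cancel₀ he0' h1
    rw [show φ * (φ₀ * ψ₀) = φ * φ₀ * ψ₀ from (mul_assoc φ φ₀ ψ₀).symm]
    exact h2
  -- expansion of `θ`
  set c := classInner θ (η ω) with hc
  set c' := classInner θ (η ω⁻¹) with hc'
  have hδδ := sign_sq hμ ω
  have hθeq : θ = c • colSum W W₂ η ω + c' • colSum W W₂ η ω⁻¹ := by
    have h1 : θ = ∑ α ∈ colR W W₂ δ η ω, classInner θ α • α := hproj
    rw [sum_colR_apply hP hμ hη hω₁ (fun α => classInner θ α • α)] at h1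
    rw [← smul_colSum hP, ← smul_colSum hP]
    refine h1.trans ?_
    congr 1
    · apply finsum_mem_congr rfl
      intro φ hφ
      rw [classInner_smul_right, map_intCast, hconst ω hω₁ φ hφ, smul_smul]
      congr 1
      rw [mul_comm (δ ω : ℂ) (classInner θ (η ω)), mul_assoc, hδδ, mul_one]
    · apply finsum_mem_congr rfl
      intro φ hφ
      rw [classInner_neg_right, classInner_smul_right, map_intCast, hconst ω⁻¹ hω₁' φ hφ,
        smul_neg, neg_smul, neg_neg, smul_smul]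
      congr 1
      rw [mul_comm (δ ω : ℂ) (classInner θ (η ω⁻¹)), mul_assoc, hδδ, mul_one]
  -- the two coefficients
  have hcol1 : classInner (colSum W W₂ η ω) (colSum W W₂ η ω⁻¹) = 0 := by
    rw [PF3bLin.classInner_colSum_colSum hD.cyclicTI hη.orthonormal, if_neg (ne_inv_on hP hω₁)]
  have hnorm : classInner θ θ = (Nat.card W₁ : ℂ) := by
    rw [hθ, CoherenceBasic.isom_inner hiso zξ zξ, hξ, TIFam.inner_colSum_colSum hP hμ,
      if_pos (fun _ _ => rfl)]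
  have hm1 : (δ ω : ℂ) * c = 0 ∨ (δ ω : ℂ) * c = 1 := by
    have hmem : (δ ω : ℂ) • η ω ∈ colR W W₂ δ η ω := by
      rw [mem_colR hP]
      exact ⟨1, PF3bLin.one_mem, Or.inl (by rw [show (1 : ↥W →* ℂˣ) * ω = ω from one_mul ω])⟩
    have := h01 _ hmem
    rwa [classInner_smul_right, map_intCast] at this
  have hm2 : (δ ω : ℂ) * c' = 0 ∨ (δ ω : ℂ) * c' = -1 := by
    have hmem : -((δ ω : ℂ) • η ω⁻¹) ∈ colR W W₂ δ η ω := by
      rw [mem_colR hP]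
      exact ⟨1, PF3bLin.one_mem, Or.inr (by rw [show (1 : ↥W →* ℂˣ) * ω⁻¹ = ω⁻¹ from one_mul ω⁻¹])⟩
    have := h01 _ hmem
    rw [classInner_neg_right, classInner_smul_right, map_intCast] at this
    rcases this with h | h
    · left; rwa [neg_eq_zero] at h
    · right; rw [← h, neg_neg]
  have hcc : c = (δ ω : ℂ) * ((δ ω : ℂ) * c) := by rw [← mul_assoc, hδδ, one_mul]
  have hcc' : c' = (δ ω : ℂ) * ((δ ω : ℂ) * c') := by rw [← mul_assoc, hδδ, one_mul]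
  have hw1 : (Nat.card W₁ : ℂ) ≠ 0 := by exact_mod_cast Nat.card_pos.ne'
  have hself1 : classInner (colSum W W₂ η ω) (colSum W W₂ η ω) = (Nat.card W₁ : ℂ) :=
    PF3bLin.classInner_colSum_self hD.cyclicTI hη.orthonormal ω
  have hself2 : classInner (colSum W W₂ η ω⁻¹) (colSum W W₂ η ω⁻¹) = (Nat.card W₁ : ℂ) :=
    PF3bLin.classInner_colSum_self hD.cyclicTI hη.orthonormal ω⁻¹
  rcases hm1 with h1 | h1 <;> rcases hm2 with h2 | h2
  · exfalso
    rw [h1, mul_zero] at hcc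
    rw [h2, mul_zero] at hcc'
    rw [hθeq, hcc, hcc', zero_smul, zero_smul, add_zero, classInner_zero_left] at hnorm
    exact hw1 hnorm.symm
  · right
    rw [h1, mul_zero] at hcc
    rw [h2] at hcc'
    rw [hθeq, hcc, hcc', zero_smul, zero_add, mul_neg, mul_one, neg_smul]
  · left
    rw [h1, mul_one] at hcc
    rw [h2, mul_zero] at hcc'
    rw [hθeq, hcc, hcc', zero_smul, add_zero]
  · exfalso
    rw [h1, mul_one] at hcc
    rw [h2] at hcc'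
    rw [hθeq, hcc, hcc', classInner_add_left, classInner_add_right, classInner_add_right] at hnorm
    simp only [classInner_smul_left, classInner_smul_right, hcol1,
      VChar.classInner_comm_eq_zero hcol1, hself1, hself2, map_mul, map_neg, map_one,
      map_intCast] at hnorm
    have h3 : (Nat.card W₁ : ℂ) * ((δ ω : ℂ) * (δ ω : ℂ)) * 2 = (Nat.card W₁ : ℂ) := by
      linear_combination hnorm
    rw [hδδ] at h3
    apply hw1
    linear_combination h3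

/-- (5.8), addendum: with a third `μ_j` of the same degree in `S` the first case holds. -/
theorem coherent_prDade_TIred' (hD : PrimeDadeHyp L K H A A₀ W W₁ W₂ R)
    (hμ : PrimeTIFam L K W W₁ W₂ μ δ) (hη : CyclicTIFam W W₁ W₂ η)
    (hodd : Odd (Nat.card L)) {S : Set (↥L → ℂ)} (hS : S ⊆ seqIndOf L K H ⊥)
    (hconj : ∀ χ ∈ S, conjFun χ ∈ S) {τ₁ : (↥L → ℂ) → (G → ℂ)}
    (hiso : IsLinearIsometryOn (zspan S) τ₁)
    (hext : ∀ α ∈ zspanOn S {1}ᶜ, τ₁ α = dadeIsometry A₀ L R α)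
    (hirr : ∃ ζ ∈ S, IsIrrCharacter ↥L ζ) {ω ω' : ↥W →* ℂˣ} (hω : colSum W W₂ μ ω ∈ S)
    (hω' : colSum W W₂ μ ω' ∈ S) (hdeg : μ ω 1 = μ ω' 1)
    (h1 : ¬ ∀ w : ↥W, (w : G) ∈ W₂ → ω w = ω' w)
    (h2 : ¬ ∀ w : ↥W, (w : G) ∈ W₂ → ω⁻¹ w = ω' w) :
    τ₁ (colSum W W₂ μ ω) = (δ ω : ℂ) • colSum W W₂ η ω := by
  classical
  have hP := hD.primeTI
  rcases coherent_prDade_TIred hD hμ hη hodd hS hconj hiso hext hirr hω with h | h
  · exact h
  exfalso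
  have hω₁ : ω ∉ lin₁ W W₂ := notMem_lin₁ hP hμ (hS hω)
  have hω₁' : ω' ∉ lin₁ W W₂ := notMem_lin₁ hP hμ (hS hω')
  have z1 := CoherenceBasic.mem_zspan hω
  have z2 := CoherenceBasic.mem_zspan hω'
  have hval : ∀ ω'', colSum W W₂ μ ω'' 1 = (Nat.card W₁ : ℂ) * μ ω'' 1 := fun ω'' =>
    TIFam.colSum_mu_on hP hμ ω'' 1 K.one_mem
  have hmem : colSum W W₂ μ ω - colSum W W₂ μ ω' ∈ zspanOn S {1}ᶜ := by
    rw [VChar.mem_zspanOn_one_iff]
    refine ⟨VChar.zspan_sub z1 z2, ?_⟩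
    rw [Pi.sub_apply, hval, hval, hdeg, sub_self]
  have e1 := hext _ hmem
  rw [CoherenceBasic.isom_sub hiso z1 z2, Prime.prDade_sub_TIred hD hμ hη hω₁ hω₁' hdeg, h] at e1
  have e2 : τ₁ (colSum W W₂ μ ω') = (δ ω : ℂ) •
      (colSum W W₂ η ω' - colSum W W₂ η ω - colSum W W₂ η ω⁻¹) := by
    rw [sub_eq_iff_eq_add] at e1
    have : τ₁ (colSum W W₂ μ ω') = -((δ ω : ℂ) • colSum W W₂ η ω⁻¹) -
      (δ ω : ℂ) • (colSum W W₂ η ω - colSum W W₂ η ω') := by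
      rw [e1]; abel
    rw [this]
    simp only [smul_sub]
    abel
  have hn := CoherenceBasic.isom_inner hiso z2 z2
  have h3 : ¬ ∀ w : ↥W, (w : G) ∈ W₂ → ω' w = ω w := fun h => h1 (fun w hw => (h w hw).symm)
  have h4 : ¬ ∀ w : ↥W, (w : G) ∈ W₂ → ω' w = ω⁻¹ w := fun h => h2 (fun w hw => (h w hw).symm)
  have h5 := ne_inv_on hP hω₁
  have h6 : ¬ ∀ w : ↥W, (w : G) ∈ W₂ → ω⁻¹ w = ω w := fun h => h5 (fun w hw => (h w hw).symm)
  have hcc := PF3bLin.classInner_colSum_colSum hD.cyclicTI hη.orthonormal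
  rw [e2, TIFam.inner_colSum_colSum hP hμ, if_pos (fun _ _ => rfl), classInner_smul_left,
    classInner_smul_right, map_intCast, classInner_sub_left, classInner_sub_left,
    classInner_sub_right, classInner_sub_right, classInner_sub_right, classInner_sub_right,
    classInner_sub_right, classInner_sub_right, hcc, hcc, hcc, hcc, hcc, hcc, hcc, hcc, hcc,
    if_pos (fun _ _ => rfl), if_pos (fun _ _ => rfl), if_pos (fun _ _ => rfl),
    if_neg h3, if_neg h4, if_neg h1, if_neg h5, if_neg h2, if_neg h6] at hn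
  have hδδ := sign_sq hμ ω
  have hw1 : (Nat.card W₁ : ℂ) ≠ 0 := by exact_mod_cast Nat.card_pos.ne'
  apply hw1
  linear_combination hn / 2 - (3 / 2 : ℂ) * (Nat.card W₁ : ℂ) * hδδ

/-- (5.9)(a): a coherent extension commutes with a field automorphism on irreducible members, if `S` is
stable and contains another irreducible member. -/
theorem gal_Dade_coherent {A : Set G} (hD : DadeHypothesis A L R)
    {S : Set (↥L → ℂ)} (_hchar : ∀ χ ∈ S, IsCharacter ↥L χ)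
    (_horth : ∀ χ ∈ S, ∀ φ ∈ S, χ ≠ φ → classInner χ φ = 0)
    (_hsupp : ∀ χ ∈ S, ∀ x : ↥L, x ≠ 1 → (x : G) ∉ A → χ x = 0)
    (s : ℂ ≃+* ℂ) (hs : ∀ χ ∈ S, gal s χ ∈ S) {τ₁ : (↥L → ℂ) → (G → ℂ)}
    (hiso : IsLinearIsometryOn (zspan S) τ₁)
    (hext : ∀ α ∈ zspanOn S {1}ᶜ, τ₁ α = dadeIsometry A L R α)
    {χ : ↥L → ℂ} (hχ : χ ∈ S) (hirr : IsIrrCharacter ↥L χ)
    (htwo : ∃ ζ ∈ S, ζ ≠ χ ∧ IsIrrCharacter ↥L ζ) :
    gal s (τ₁ χ) = τ₁ (gal s χ) := by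
  obtain ⟨ζ, hζ, hne, hζi⟩ := htwo
  exact PF5Gal.cfAut_Dade_coherent hD s hs hiso hext hχ hirr hζ hζi hne

/-- (5.9)(b): complex conjugation. -/
theorem conj_Dade_coherent {A : Set G} (hD : DadeHypothesis A L R)
    {S : Set (↥L → ℂ)} (_hchar : ∀ χ ∈ S, IsCharacter ↥L χ)
    (_horth : ∀ χ ∈ S, ∀ φ ∈ S, χ ≠ φ → classInner χ φ = 0)
    (hreal : ∀ χ ∈ S, conjFun χ ≠ χ)
    (_hsupp : ∀ χ ∈ S, ∀ x : ↥L, x ≠ 1 → (x : G) ∉ A → χ x = 0)
    (hs : ∀ χ ∈ S, conjFun χ ∈ S) {τ₁ : (↥L → ℂ) → (G → ℂ)}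
    (hiso : IsLinearIsometryOn (zspan S) τ₁)
    (hext : ∀ α ∈ zspanOn S {1}ᶜ, τ₁ α = dadeIsometry A L R α)
    {χ : ↥L → ℂ} (hχ : χ ∈ S) (hirr : IsIrrCharacter ↥L χ) :
    conjFun (τ₁ χ) = τ₁ (conjFun χ) :=
  PF5Gal.cfConjC_Dade_coherent hD hs hiso hext hχ hirr (hreal χ hχ)

end Cfsg.Agent.OddOrderCharacters.PF4b.CohExt
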