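import Cfsg.Agent.OddOrderCharacters.Sibley68
import Cfsg.Agent.OddOrderCharacters.PFDefs
import Cfsg.Agent.OddOrderCharacters.PF4b.DadeInd

/-!
# Peterfalvi (6.8), case (c2): Sibley's coherence theorem with a prime action

* `Sibley_coherence_prime` : under the prime Dade hypothesis with kernel the nilpotent TI-subgroup
  `H`, and `W₂ ≤ H'` of prime order, the functions induced from the non-principal irreducible
  characters of `H` to its normaliser `L` are coherent with respect to induction.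
-/

set_option autoImplicit false

open scoped ComplexConjugate
open Cfsg

namespace Cfsg.Agent.OddOrderCharacters.PF4b.Sibley

open Cfsg.Agent.OddOrderCharacters.PFDefs

universe u

variable {G : Type u} [Group G] [Fintype G] {L H W W₁ W₂ : Subgroup G} [Fintype ↥L] {A₀ : Set G}
  {R : G → Subgroup G}

/-- The order of `H` is prime to that of `W₁`. -/
theorem coprime_card {A : Set G} (hD : PrimeDadeHyp L H H A A₀ W W₁ W₂ R) :
    Nat.Coprime (Nat.card H) (Nat.card W₁) := by
  have hP := hD.primeTI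
  have hHL : H ≤ L := hP.le
  have hW₁L : W₁ ≤ L := by rw [← hP.sup_L]; exact le_sup_right
  have hn : (H.subgroupOf L).Normal := ⟨fun n hn g => by
    rw [Subgroup.mem_subgroupOf] at hn ⊢
    exact hP.normal g g.2 n hn⟩
  have hinf : H.subgroupOf L ⊓ W₁.subgroupOf L = ⊥ := by
    rw [eq_bot_iff]
    intro x hx
    have h1 : (x : G) ∈ H ⊓ W₁ :=
      ⟨Subgroup.mem_subgroupOf.mp hx.1, Subgroup.mem_subgroupOf.mp hx.2⟩
    rw [hP.inf_eq, Subgroup.mem_bot] at h1
    rw [Subgroup.mem_bot]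
    exact Subtype.ext h1
  have hsup : H.subgroupOf L ⊔ W₁.subgroupOf L = ⊤ := by
    rw [← Subgroup.subgroupOf_sup hHL hW₁L, hP.sup_L, Subgroup.subgroupOf_self]
  have hcompl : Subgroup.IsComplement' (H.subgroupOf L) (W₁.subgroupOf L) := by
    apply Subgroup.isComplement'_of_disjoint_and_mul_eq_univ
    · rw [disjoint_iff]
      exact hinf
    · rw [← Subgroup.normal_mul, hsup, Subgroup.coe_top]
  have h1 : (W₁.subgroupOf L).index = Nat.card ↥(H.subgroupOf L) := hcompl.index_eq_card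
  have h2 : Nat.card ↥(H.subgroupOf L) = Nat.card H :=
    Nat.card_congr (Subgroup.subgroupOfEquivOfLe hHL).toEquiv
  have h3 := hP.W₁_hall
  have h4 : W₁.relIndex L = Nat.card H := by rw [← h2, ← h1]; rfl
  rw [h4] at h3
  exact h3.symm

/-- **Peterfalvi (6.8), case (c2)**, for induction. -/
theorem Sibley_coherence_prime' (hodd : Odd (Nat.card L)) (hnil : Group.IsNilpotent H)
    (hTI : IsTISubset (H : Set G)) (hN : Subgroup.normalizer (H : Set G) = L)
    (hD : PrimeDadeHyp L H H ((H : Set G) \ {1}) A₀ W W₁ W₂ R) (hW₂ : (Nat.card W₂).Prime)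
    (hW₂H : W₂ ≤ ⁅H, H⁆) :
    IsCoherent (inducedIrrAbove (H.subgroupOf L) ⊥) {1}ᶜ (fun α : ↥L → ℂ => indFun L α) := by
  obtain ⟨R', hR'⟩ := DadeInd.system_ind hodd hTI hN hD
  have hP := hD.primeTI
  exact Sibley68.sibley hodd hnil (by rw [← hP.sup_L]; exact le_sup_right) hP.W₁_ne hP.inf_eq
    hP.sup_L (coprime_card hD) hP.centralizer_eq (Or.inr hW₂) hW₂H hTI hN hR'

/-- **Peterfalvi (6.8), case (c2)**, for induction. -/
theorem Sibley_coherence_prime (hodd : Odd (Nat.card L)) (hnil : Group.IsNilpotent H)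
    (hTI : IsTISubset (H : Set G)) (hN : Subgroup.normalizer (H : Set G) = L)
    (hD : PrimeDadeHyp L H H ((H : Set G) \ {1}) A₀ W W₁ W₂ R) (hW₂ : (Nat.card W₂).Prime)
    (hW₂H : W₂ ≤ ⁅H, H⁆) :
    IsCoherent (seqIndOf L H H ⊥) {1}ᶜ (fun α : ↥L → ℂ => indFun L α) := by
  rw [DadeInd.seqIndOf_eq]
  exact Sibley_coherence_prime' hodd hnil hTI hN hD hW₂ hW₂H

/-- **Peterfalvi (6.8), case (c2)**, for the Dade map. -/
theorem Sibley_coherence_prime_dade (hodd : Odd (Nat.card L)) (hnil : Group.IsNilpotent H)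
    (hTI : IsTISubset (H : Set G)) (hN : Subgroup.normalizer (H : Set G) = L)
    (hD : PrimeDadeHyp L H H ((H : Set G) \ {1}) A₀ W W₁ W₂ R) (hW₂ : (Nat.card W₂).Prime)
    (hW₂H : W₂ ≤ ⁅H, H⁆) :
    IsCoherent (seqIndOf L H H ⊥) {1}ᶜ (dadeIsometry A₀ L R) := by
  obtain ⟨hne, τ₁, h1, h2⟩ := Sibley_coherence_prime hodd hnil hTI hN hD hW₂ hW₂H
  refine ⟨hne, τ₁, h1, fun α hα => ?_⟩
  rw [h2 α hα, DadeInd.dade_eq_ind_zspanOn hTI hN hD hα]

end Cfsg.Agent.OddOrderCharacters.PF4b.Sibley
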