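import Mathlib
import Cfsg.Prelude.Def_Characters
import Cfsg.Prelude.Def_OddOrderChar
import Cfsg.Prelude.Def_OddOrderLocal
import Cfsg.Agent.Characters.Core
import Cfsg.Agent.OddOrderCharacters.PFDefs
import Cfsg.Agent.OddOrderCharacters.VChar
import Cfsg.Agent.OddOrderCharacters.Galois
import Cfsg.Agent.OddOrderCharacters.CoherenceBasic
import Cfsg.Agent.OddOrderCharacters.InducedNormal
import Cfsg.Agent.OddOrderCharacters.VirtualNormTwo
import Cfsg.Agent.OddOrderCharacters.CyclicTIChars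
import Cfsg.Agent.S0148
import Cfsg.Agent.S0161
import Cfsg.Agent.OddOrderCharacters.PF3bGroup
import Cfsg.Agent.OddOrderCharacters.PF3bNC
import Cfsg.Agent.OddOrderCharacters.PF3bGal
import Cfsg.Agent.OddOrderCharacters.PF4b.TIFam
import Cfsg.Agent.OddOrderCharacters.PF4b.Prime

/-!
# Peterfalvi (5.3)(b): the prime Dade hypothesis gives a coherence system
-/

set_option autoImplicit false

open scoped ComplexConjugate
open Cfsg Cfsg.Agent.OddOrderCharacters.PFDefs Cfsg.Agent.OddOrderCharacters.Galois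
open Cfsg.Agent.Characters.Core

universe u v

namespace Cfsg.Agent.OddOrderCharacters.PF4b.Subcoherent

variable {G : Type u} [Group G] [Fintype G] {L K H W W₁ W₂ : Subgroup G} [Fintype ↥L]
  {A A₀ : Set G} {R : G → Subgroup G}
  {μ : (↥W →* ℂˣ) → (↥L → ℂ)} {δ : (↥W →* ℂˣ) → ℤ} {η : (↥W →* ℂˣ) → (G → ℂ)}

/-! ### Elementary facts on `seqIndOf` -/

omit [Fintype G] in
theorem mem_seqIndOf {X Y : Subgroup G} {φ : ↥L → ℂ} : φ ∈ seqIndOf L K X Y ↔
    ∃ θ : ↥(K.subgroupOf L) → ℂ, IsIrrCharacter ↥(K.subgroupOf L) θ ∧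
      (∃ x : ↥(K.subgroupOf L), ((x : ↥L) : G) ∈ X ∧ θ x ≠ θ 1) ∧
      (∀ y : ↥(K.subgroupOf L), ((y : ↥L) : G) ∈ Y → θ y = θ 1) ∧
      φ = indFun (K.subgroupOf L) θ := Iff.rfl

theorem isCharacter_of_mem {X Y : Subgroup G} {φ : ↥L → ℂ} (hφ : φ ∈ seqIndOf L K X Y) :
    IsCharacter ↥L φ := by
  obtain ⟨θ, hθ, -, -, rfl⟩ := mem_seqIndOf.mp hφ
  exact Cfsg.Agent.S0148.result _ θ (isIrr_isCharacter hθ)

theorem gen_of_mem {X Y : Subgroup G} {φ : ↥L → ℂ} (hφ : φ ∈ seqIndOf L K X Y) :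
    IsGeneralizedCharacter ↥L φ := VChar.gen_of_char (isCharacter_of_mem hφ)

theorem conjFun_mem {X Y : Subgroup G} {φ : ↥L → ℂ} (hφ : φ ∈ seqIndOf L K X Y) :
    conjFun φ ∈ seqIndOf L K X Y := by
  obtain ⟨θ, hθ, ⟨x, hx, hx'⟩, hy, rfl⟩ := mem_seqIndOf.mp hφ
  refine mem_seqIndOf.mpr ⟨conjFun θ, VChar.isIrr_conjFun hθ, ⟨x, hx, ?_⟩, ?_, ?_⟩
  · intro h
    apply hx'
    have := congrArg (starRingEnd ℂ) h
    simpa [VChar.conjFun_apply] using this
  · intro y hy'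
    rw [VChar.conjFun_apply, VChar.conjFun_apply, hy y hy']
  · exact InducedNormal.conjFun_indFun _ _

omit [Fintype G] [Fintype ↥L] in
theorem normal_subgroupOf (hP : PrimeTIHyp L K W W₁ W₂) : (K.subgroupOf L).Normal := by
  constructor
  intro n hn g
  rw [Subgroup.mem_subgroupOf] at hn ⊢
  exact hP.normal g g.2 n hn

/-- Members of the family vanish off `K`. -/
theorem off_of_mem (hP : PrimeTIHyp L K W W₁ W₂) {X Y : Subgroup G} {φ : ↥L → ℂ}
    (hφ : φ ∈ seqIndOf L K X Y) (x : ↥L) (hx : (x : G) ∉ K) : φ x = 0 := by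
  obtain ⟨θ, hθ, -, -, rfl⟩ := mem_seqIndOf.mp hφ
  have := normal_subgroupOf hP
  exact InducedNormal.indFun_of_not_mem _ _ (fun h => hx (Subgroup.mem_subgroupOf.mp h))

theorem inner_one {X Y : Subgroup G} {φ : ↥L → ℂ}
    (hφ : φ ∈ seqIndOf L K X Y) : classInner φ (fun _ => 1) = 0 := by
  classical
  obtain ⟨θ, hθ, ⟨x, hx, hx'⟩, -, rfl⟩ := mem_seqIndOf.mp hφ
  rw [InducedNormal.frobenius _ _ _ (fun _ _ => rfl)]
  refine classInner_irr_ne hθ isIrr_one ?_
  rintro rfl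
  exact hx' rfl

/-- `μ_j` belongs to the family only for `j ≠ 0`. -/
theorem notMem_lin₁ (hP : PrimeTIHyp L K W W₁ W₂) (hμ : PrimeTIFam L K W W₁ W₂ μ δ)
    {X Y : Subgroup G} {ω : ↥W →* ℂˣ} (hω : colSum W W₂ μ ω ∈ seqIndOf L K X Y) :
    ω ∉ lin₁ W W₂ := by
  classical
  intro h
  have h1 := TIFam.inner_colSum_mu hP hμ ω 1
  rw [if_pos (fun w hw => by rw [h w hw]; rfl), hμ.map_one, inner_one hω] at h1
  exact zero_ne_one h1

theorem colSum_not_irr (hD : PrimeDadeHyp L K H A A₀ W W₁ W₂ R)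
    (hμ : PrimeTIFam L K W W₁ W₂ μ δ) (ω : ↥W →* ℂˣ) :
    ¬ IsIrrCharacter ↥L (colSum W W₂ μ ω) := by
  intro h
  have h1 := TIFam.inner_colSum_colSum hD.primeTI hμ ω ω
  rw [if_pos (fun _ _ => rfl), classInner_irr_self h] at h1
  have h3 := PF3bGroup.three_le₁ hD.cyclicTI
  have : (1 : ℕ) = Nat.card W₁ := by exact_mod_cast h1
  omega

/-- No irreducible member of the family is real if `L` has odd order. -/
theorem conj_ne_irr (hodd : Odd (Nat.card L)) {X Y : Subgroup G} {φ : ↥L → ℂ}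
    (hφ : φ ∈ seqIndOf L K X Y) (hirr : IsIrrCharacter ↥L φ) : conjFun φ ≠ φ := by
  intro h
  have h1 := Cfsg.Agent.S0161.result hodd ⟨φ, hirr⟩ (fun g => by
      have := congrFun h g
      rw [VChar.conjFun_apply] at this
      exact Complex.conj_eq_iff_im.mp this)
  have h1' : φ = fun _ => 1 := h1
  have h2 := inner_one hφ
  rw [h1'] at h2
  have h3 := classInner_irr_self (G := ↥L) isIrr_one
  exact one_ne_zero (h3.symm.trans h2)

/-- No member of the family is real if `L` has odd order. -/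
theorem conj_ne (hD : PrimeDadeHyp L K H A A₀ W W₁ W₂ R)
    (hμ : PrimeTIFam L K W W₁ W₂ μ δ) (hodd : Odd (Nat.card L)) {X Y : Subgroup G} {φ : ↥L → ℂ}
    (hφ : φ ∈ seqIndOf L K X Y) : conjFun φ ≠ φ := by
  intro h
  rcases Prime.seqIndOf_cases hD.primeTI hμ hφ with hirr | ⟨ω, rfl⟩
  · exact conj_ne_irr hodd hφ hirr h
  · rw [TIFam.conjFun_colSum_mu hD.primeTI hμ, TIFam.colSum_mu_eq_iff hD.primeTI hμ] at h
    have h4 : ω⁻¹ * ω⁻¹ ∈ lin₁ W W₂ := by
      have := (PF3bLin.mul_inv_mem_iff (W₂ := W₂) (ω := ω⁻¹) (ω' := ω)).mpr h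
      exact this
    have h5 : ω ∈ lin₁ W W₂ := by
      intro w hw
      have h6 := h4 w hw
      rw [MonoidHom.mul_apply, MonoidHom.inv_apply, ← mul_inv, inv_eq_one, ← map_mul] at h6
      -- `w` is a square in `⟨w⟩` since the order of `W` is odd
      have hoddW := hD.primeTI.odd
      obtain ⟨m, hm⟩ := hoddW
      have h7 : w = (w * w) ^ (m + 1) := by
        rw [← pow_two, ← pow_mul]
        have : w ^ (Nat.card ↥W) = 1 := pow_card_eq_one'
        have e : 2 * (m + 1) = Nat.card ↥W + 1 := by omega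
        rw [e, pow_succ, this, one_mul]
      rw [h7, map_pow, h6, one_pow]
    exact notMem_lin₁ hD.primeTI hμ hφ h5

theorem finite_hom (hP : PrimeTIHyp L K W W₁ W₂) : Finite (↥W →* ℂˣ) := by
  have hc : IsCyclic ↥W := TIFam.W_cyclic hP
  exact CyclicTIChars.finite_hom (fun a b => (IsCyclic.commGroup (α := ↥W)).mul_comm a b)

/-- Distinct members of the family are orthogonal. -/
theorem orthogonal (hP : PrimeTIHyp L K W W₁ W₂) (hμ : PrimeTIFam L K W W₁ W₂ μ δ)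
    {X Y X' Y' : Subgroup G} {φ ψ : ↥L → ℂ} (hφ : φ ∈ seqIndOf L K X Y)
    (hψ : ψ ∈ seqIndOf L K X' Y') (hne : φ ≠ ψ) : classInner φ ψ = 0 := by
  classical
  have key : ∀ {X Y : Subgroup G} {φ : ↥L → ℂ} (ω : ↥W →* ℂˣ), φ ∈ seqIndOf L K X Y →
      IsIrrCharacter ↥L φ → classInner (colSum W W₂ μ ω) φ = 0 := by
    intro X Y φ ω hφ hirr
    have hfin := finite_hom hP
    show classInner (∑ᶠ φ ∈ lin₁ W W₂, μ (φ * ω)) φ = 0
    rw [finsum_mem_eq_finite_toFinset_sum _ (Set.toFinite (lin₁ W W₂)), classInner_sum_left]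
    apply Finset.sum_eq_zero
    intro φ' _
    exact classInner_irr_ne (hμ.irr _) hirr
      (TIFam.ne_mu_of_off hP hμ (off_of_mem hP hφ) _).symm
  rcases Prime.seqIndOf_cases hP hμ hφ with h1 | ⟨ω, rfl⟩ <;>
    rcases Prime.seqIndOf_cases hP hμ hψ with h2 | ⟨ω', rfl⟩
  · exact classInner_irr_ne h1 h2 hne
  · exact VChar.classInner_comm_eq_zero (key ω' hφ h1)
  · exact key ω hψ h2
  · rw [TIFam.inner_colSum_colSum hP hμ, if_neg]
    intro h
    exact hne ((TIFam.colSum_mu_eq_iff hP hμ ω ω').mpr h)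

/-! ### Orthogonality of `τ(χ - conj χ)` to the `η ω` -/

/-- The Dade image of a combination of members vanishes on `V`. -/
theorem dade_vanish_V (hD : PrimeDadeHyp L K H A A₀ W W₁ W₂ R) {S : Set (↥L → ℂ)}
    (hS : S ⊆ seqIndOf L K H ⊥) {α : ↥L → ℂ} (hα : α ∈ zspanOn S {1}ᶜ) {v : G}
    (hv : v ∈ cycTIset W W₁ W₂) : dadeIsometry A₀ L R α v = 0 := by
  have hgen : IsGeneralizedCharacter ↥L α :=
    VChar.gen_of_mem_zspan (fun χ hχ => gen_of_mem (hS hχ)) hα.1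
  obtain ⟨hvW, hv₁, hv₂⟩ := PF3bGroup.mem_cycTIset.mp hv
  have hvL : v ∈ L := TIFam.W_le hD.primeTI hvW
  rw [show v = ((⟨v, hvW⟩ : ↥W) : G) from rfl,
    Prime.dade_V hD (VChar.gen_isClassFunction hgen) ⟨v, hvW⟩ hv₁ hv₂ hvL]
  have hvK : v ∉ K := by
    intro h
    apply hv₂
    have : v ∈ W ⊓ K := ⟨hvW, h⟩
    rwa [TIFam.W_inf_K hD.primeTI] at this
  -- every member vanishes at `v`
  refine VChar.zspan_induction (p := fun β => β (⟨v, hvL⟩ : ↥L) = 0) rfl ?_ ?_ ?_ hα.1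
  · intro χ hχ
    exact off_of_mem hD.primeTI (hS hχ) _ hvK
  · intro β _ γ _ h1 h2
    rw [Pi.add_apply, h1, h2, add_zero]
  · intro n β _ h1
    rw [Pi.smul_apply, h1, smul_zero]

/-- `τ(χ - conj χ)` is orthogonal to all the `η ω` for `χ` irreducible in the family. -/
theorem dade_sub_conj_ortho (hD : PrimeDadeHyp L K H A A₀ W W₁ W₂ R)
    (hη : CyclicTIFam W W₁ W₂ η) {χ : ↥L → ℂ} (hχ : IsIrrCharacter ↥L χ)
    (hS : χ ∈ seqIndOf L K H ⊥) (ω : ↥W →* ℂˣ) :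
    classInner (dadeIsometry A₀ L R (χ - conjFun χ)) (η ω) = 0 := by
  set S : Set (↥L → ℂ) := {χ, conjFun χ} with hSdef
  have hsub : S ⊆ seqIndOf L K H ⊥ := by
    rintro ψ (rfl | rfl)
    · exact hS
    · exact conjFun_mem hS
  have h1 : χ ∈ S := Set.mem_insert _ _
  have h2 : conjFun χ ∈ S := Set.mem_insert_of_mem _ rfl
  have hmem : χ - conjFun χ ∈ zspanOn S {1}ᶜ := by
    rw [VChar.mem_zspanOn_one_iff]
    refine ⟨VChar.zspan_sub (VChar.zspan_subset h1) (VChar.zspan_subset h2), ?_⟩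
    obtain ⟨n, -, hn⟩ := isIrr_apply_one hχ
    rw [Pi.sub_apply, VChar.conjFun_apply, hn]
    simp
  obtain ⟨hiso, -⟩ := Prime.prDade_isometry hD hsub
  have hgen := hiso.2.2.2 _ hmem
  have hnorm : ∃ n : ℕ, n ≤ 2 ∧
      classInner (dadeIsometry A₀ L R (χ - conjFun χ)) (dadeIsometry A₀ L R (χ - conjFun χ)) =
        n := by
    rw [hiso.2.2.1 _ hmem _ hmem]
    by_cases h : conjFun χ = χ
    · refine ⟨0, by norm_num, ?_⟩
      rw [h, sub_self, classInner_zero_left]; simp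
    · refine ⟨2, le_refl _, ?_⟩
      have hc := VChar.isIrr_conjFun hχ
      rw [classInner_sub_left, classInner_sub_right, classInner_sub_right,
        classInner_irr_self hχ, classInner_irr_self hc,
        classInner_irr_ne hχ hc (Ne.symm h), classInner_irr_ne hc hχ h]
      norm_num
  obtain ⟨n, hn2, hn⟩ := hnorm
  by_contra hne
  have h3 := PF3bNC.NC_le_norm hη hD.cyclicTI hgen hn
  have w1 := PF3bGroup.three_le₁ hD.cyclicTI
  have w2 := PF3bGroup.three_le₂ hD.cyclicTI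
  have hmin : 3 ≤ min (Nat.card W₁) (Nat.card W₂) := le_min w1 w2
  have h4 := PF3bNC.NC_minn hη hD.cyclicTI (VChar.gen_isClassFunction hgen)
    (fun v hv => dade_vanish_V hD hsub hmem hv) (by omega) ⟨ω, hne⟩
  omega

/-! ### The sets `R χ` -/

section Rf

open Classical in
/-- The set attached to `μ_j`. -/
noncomputable def colR (W W₂ : Subgroup G) (δ : (↥W →* ℂˣ) → ℤ) (η : (↥W →* ℂˣ) → (G → ℂ))
    (ω : ↥W →* ℂˣ) : Finset (G → ℂ) :=
  if h : (lin₁ W W₂).Finite then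
    h.toFinset.image (fun φ => (δ ω : ℂ) • η (φ * ω)) ∪
      h.toFinset.image (fun φ => -((δ ω : ℂ) • η (φ * ω⁻¹)))
  else ∅

theorem mem_colR (hP : PrimeTIHyp L K W W₁ W₂) {ω : ↥W →* ℂˣ} {α : G → ℂ} :
    α ∈ colR W W₂ δ η ω ↔
      ∃ φ ∈ lin₁ W W₂, α = (δ ω : ℂ) • η (φ * ω) ∨ α = -((δ ω : ℂ) • η (φ * ω⁻¹)) := by
  classical
  have hfin := finite_hom hP
  have h : (lin₁ W W₂).Finite := Set.toFinite _
  rw [colR, dif_pos h]
  simp only [Finset.mem_union, Finset.mem_image, Set.Finite.mem_toFinset]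
  constructor
  · rintro (⟨φ, hφ, rfl⟩ | ⟨φ, hφ, rfl⟩)
    · exact ⟨φ, hφ, Or.inl rfl⟩
    · exact ⟨φ, hφ, Or.inr rfl⟩
  · rintro ⟨φ, hφ, rfl | rfl⟩
    · exact Or.inl ⟨φ, hφ, rfl⟩
    · exact Or.inr ⟨φ, hφ, rfl⟩

theorem hom_cancel₁ {Γ : Type*} [Group Γ] (φ a b : Γ →* ℂˣ) : φ * (a * b⁻¹) * b = φ * a := by
  ext w; simp [mul_assoc]

theorem hom_cancel₂ {Γ : Type*} [Group Γ] (φ a b : Γ →* ℂˣ) : φ * (b * a⁻¹) * b⁻¹ = φ * a⁻¹ := by
  ext w
  simp only [MonoidHom.mul_apply, MonoidHom.inv_apply]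
  rw [mul_assoc, mul_comm (b w) (a w)⁻¹, mul_inv_cancel_right]

theorem hom_inv_mul {Γ : Type*} [Group Γ] (a b : Γ →* ℂˣ) : (a * b⁻¹)⁻¹ = b * a⁻¹ := by
  ext w
  simp

/-- `R (μ_j)` depends only on `j`. -/
theorem colR_congr (hP : PrimeTIHyp L K W W₁ W₂) (hμ : PrimeTIFam L K W W₁ W₂ μ δ)
    {ω ω' : ↥W →* ℂˣ} (h : ∀ w : ↥W, (w : G) ∈ W₂ → ω w = ω' w) :
    colR W W₂ δ η ω = colR W W₂ δ η ω' := by
  ext α
  rw [mem_colR hP, mem_colR hP, hμ.sign_congr ω ω' h]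
  have h1 : ω * ω'⁻¹ ∈ lin₁ W W₂ := PF3bLin.mul_inv_mem_iff.mpr h
  have h2 : ω' * ω⁻¹ ∈ lin₁ W W₂ := PF3bLin.mul_inv_mem_iff.mpr (fun w hw => (h w hw).symm)
  constructor
  · rintro ⟨φ, hφ, rfl | rfl⟩
    · refine ⟨φ * (ω * ω'⁻¹), PF3bLin.mul_mem hφ h1, Or.inl ?_⟩
      rw [hom_cancel₁]
    · refine ⟨φ * (ω' * ω⁻¹), PF3bLin.mul_mem hφ h2, Or.inr ?_⟩
      rw [hom_cancel₂]
  · rintro ⟨φ, hφ, rfl | rfl⟩
    · refine ⟨φ * (ω' * ω⁻¹), PF3bLin.mul_mem hφ h2, Or.inl ?_⟩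
      rw [hom_cancel₁]
    · refine ⟨φ * (ω * ω'⁻¹), PF3bLin.mul_mem hφ h1, Or.inr ?_⟩
      rw [hom_cancel₂]

end Rf

/-- `a - b` and `c - d` orthogonal differences of distinct irreducibles: all four are pairwise
orthogonal across. -/
theorem cross_ortho {Γ : Type*} [Group Γ] [Fintype Γ] {a b c d : Γ → ℂ} (ha : IsIrrCharacter Γ a)
    (hb : IsIrrCharacter Γ b) (hc : IsIrrCharacter Γ c) (hd : IsIrrCharacter Γ d) (hab : a ≠ b)
    (hcd : c ≠ d) (h : classInner (a - b) (c - d) = 0) :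
    a ≠ c ∧ a ≠ d ∧ b ≠ c ∧ b ≠ d := by
  classical
  rw [classInner_sub_left, classInner_sub_right, classInner_sub_right,
    classInner_irr ha hc, classInner_irr ha hd, classInner_irr hb hc, classInner_irr hb hd] at h
  refine ⟨?_, ?_, ?_, ?_⟩
  · rintro rfl
    rw [if_pos rfl, if_neg hcd, if_neg hab.symm] at h
    split_ifs at h <;> norm_num at h
  · rintro rfl
    rw [if_pos rfl, if_neg hcd.symm, if_neg hab.symm] at h
    split_ifs at h <;> norm_num at h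
  · rintro rfl
    rw [if_pos rfl, if_neg hab, if_neg hcd] at h
    split_ifs at h <;> norm_num at h
  · rintro rfl
    rw [if_pos rfl, if_neg hab, if_neg hcd.symm] at h
    split_ifs at h <;> norm_num at h

/-- For an irreducible member `χ`, `τ(χ - conj χ) = a - b` with `a ≠ b` irreducible and orthogonal to
all the `η ω`. -/
theorem irr_data (hD : PrimeDadeHyp L K H A A₀ W W₁ W₂ R) (hμ : PrimeTIFam L K W W₁ W₂ μ δ)
    (hη : CyclicTIFam W W₁ W₂ η) (hodd : Odd (Nat.card L)) {χ : ↥L → ℂ}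
    (hχ : IsIrrCharacter ↥L χ) (hS : χ ∈ seqIndOf L K H ⊥) :
    ∃ a b : G → ℂ, IsIrrCharacter G a ∧ IsIrrCharacter G b ∧ a ≠ b ∧
      dadeIsometry A₀ L R (χ - conjFun χ) = a - b ∧
      (∀ ω, classInner a (η ω) = 0) ∧ (∀ ω, classInner b (η ω) = 0) := by
  set S : Set (↥L → ℂ) := {χ, conjFun χ} with hSdef
  have hsub : S ⊆ seqIndOf L K H ⊥ := by
    rintro ψ (rfl | rfl)
    · exact hS
    · exact conjFun_mem hS
  have h1 : χ ∈ S := Set.mem_insert _ _
  have h2 : conjFun χ ∈ S := Set.mem_insert_of_mem _ rfl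
  have hmem : χ - conjFun χ ∈ zspanOn S {1}ᶜ := by
    rw [VChar.mem_zspanOn_one_iff]
    refine ⟨VChar.zspan_sub (VChar.zspan_subset h1) (VChar.zspan_subset h2), ?_⟩
    obtain ⟨n, -, hn⟩ := isIrr_apply_one hχ
    rw [Pi.sub_apply, VChar.conjFun_apply, hn]
    simp
  obtain ⟨hiso, h10⟩ := Prime.prDade_isometry hD hsub
  have hgen := hiso.2.2.2 _ hmem
  have hnorm : classInner (dadeIsometry A₀ L R (χ - conjFun χ))
      (dadeIsometry A₀ L R (χ - conjFun χ)) = 2 := by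
    rw [hiso.2.2.1 _ hmem _ hmem]
    have h := conj_ne hD hμ hodd hS
    have hc := VChar.isIrr_conjFun hχ
    rw [classInner_sub_left, classInner_sub_right, classInner_sub_right,
      classInner_irr_self hχ, classInner_irr_self hc,
      classInner_irr_ne hχ hc (Ne.symm h), classInner_irr_ne hc hχ h]
    norm_num
  obtain ⟨a, b, ha, hb, hab, hT⟩ :=
    VirtualNormTwo.exists_sub_of_norm_two hgen (h10 _ hmem) hnorm
  refine ⟨a, b, ha, hb, hab, hT, ?_, ?_⟩
  · intro ω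
    by_contra hne
    have h3 := dade_sub_conj_ortho hD hη hχ hS ω
    rw [hT, classInner_sub_left] at h3
    have h4 : classInner b (η ω) = 0 := by
      rcases PF3b.eq_or_eq_neg hη (Or.inl ha) hne with h5 | h5
      · rw [← h5]; exact classInner_irr_ne hb ha hab.symm
      · have h6 : η ω = -a := by rw [h5, neg_neg]
        rw [h6, classInner_neg_right, classInner_irr_ne hb ha hab.symm, neg_zero]
    rw [h4, sub_zero] at h3
    exact hne h3
  · intro ω
    by_contra hne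
    have h3 := dade_sub_conj_ortho hD hη hχ hS ω
    rw [hT, classInner_sub_left] at h3
    have h4 : classInner a (η ω) = 0 := by
      rcases PF3b.eq_or_eq_neg hη (Or.inl hb) hne with h5 | h5
      · rw [← h5]; exact classInner_irr_ne ha hb hab
      · have h6 : η ω = -b := by rw [h5, neg_neg]
        rw [h6, classInner_neg_right, classInner_irr_ne ha hb hab, neg_zero]
    rw [h4, zero_sub, neg_eq_zero] at h3
    exact hne h3

theorem sign_sq (hμ : PrimeTIFam L K W W₁ W₂ μ δ) (ω : ↥W →* ℂˣ) :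
    (δ ω : ℂ) * (δ ω : ℂ) = 1 := by
  rcases hμ.sign ω with h | h <;> rw [h] <;> norm_num

/-- Inner products of the members of `R (μ_j)` and `R (μ_k)` in terms of the `η`'s. -/
theorem inner_smul_eta (ω ω' ω₁ ω₂ : ↥W →* ℂˣ) :
    classInner ((δ ω : ℂ) • η ω₁) ((δ ω' : ℂ) • η ω₂) =
      (δ ω : ℂ) * (δ ω' : ℂ) * classInner (η ω₁) (η ω₂) := by
  rw [classInner_smul_left, classInner_smul_right, map_intCast, mul_assoc]

omit [Fintype G] [Fintype ↥L] in
/-- `ω` and `ω⁻¹` differ on `W₂` unless `ω` is trivial on `W₂`. -/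
theorem ne_inv_on (hP : PrimeTIHyp L K W W₁ W₂) {ω : ↥W →* ℂˣ} (hω : ω ∉ lin₁ W W₂) :
    ¬ ∀ w : ↥W, (w : G) ∈ W₂ → ω w = ω⁻¹ w := by
  intro h
  apply hω
  intro w hw
  have h6 := h w hw
  rw [MonoidHom.inv_apply, eq_inv_iff_mul_eq_one, ← map_mul] at h6
  obtain ⟨m, hm⟩ := hP.odd
  have h7 : w = (w * w) ^ (m + 1) := by
    rw [← pow_two, ← pow_mul]
    have : w ^ (Nat.card ↥W) = 1 := pow_card_eq_one'
    have e : 2 * (m + 1) = Nat.card ↥W + 1 := by omega
    rw [e, pow_succ, this, one_mul]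
  rw [h7, map_pow, h6, one_pow]

omit [Fintype G] in
theorem ne_of_ne_on {ω ω' φ φ' : ↥W →* ℂˣ} (hφ : φ ∈ lin₁ W W₂) (hφ' : φ' ∈ lin₁ W W₂)
    (h : ¬ ∀ w : ↥W, (w : G) ∈ W₂ → ω w = ω' w) : φ * ω ≠ φ' * ω' := by
  intro he
  apply h
  intro w hw
  have := DFunLike.congr_fun he w
  rw [MonoidHom.mul_apply, MonoidHom.mul_apply, hφ w hw, hφ' w hw, one_mul, one_mul] at this
  exact this

theorem hom_mul_right_cancel {Γ : Type*} [Group Γ] {φ φ' ω : Γ →* ℂˣ} (h : φ * ω = φ' * ω) :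
    φ = φ' := by
  ext w
  have := DFunLike.congr_fun h w
  rw [MonoidHom.mul_apply, MonoidHom.mul_apply] at this
  rw [mul_right_cancel this]

theorem colR_orthonormal (hP : PrimeTIHyp L K W W₁ W₂) (hμ : PrimeTIFam L K W W₁ W₂ μ δ)
    (hη : CyclicTIFam W W₁ W₂ η) {ω : ↥W →* ℂˣ} (hω : ω ∉ lin₁ W W₂) {α β : G → ℂ}
    (hα : α ∈ colR W W₂ δ η ω) (hβ : β ∈ colR W W₂ δ η ω) :
    classInner α β = @ite ℂ (α = β) (Classical.propDecidable (α = β)) 1 0 := by
  classical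
  have hself : ∀ ω₁ : ↥W →* ℂˣ, classInner ((δ ω : ℂ) • η ω₁) ((δ ω : ℂ) • η ω₁) = 1 := by
    intro ω₁
    rw [inner_smul_eta, PF3b.eta_norm hη, sign_sq hμ, mul_one]
  have hoff : ∀ {ω₁ ω₂ : ↥W →* ℂˣ}, ω₁ ≠ ω₂ →
      classInner ((δ ω : ℂ) • η ω₁) ((δ ω : ℂ) • η ω₂) = 0 := by
    intro ω₁ ω₂ h
    rw [inner_smul_eta, PF3b.eta_orth hη h, mul_zero]
  have hne := ne_inv_on hP hω
  have hne' : ¬ ∀ w : ↥W, (w : G) ∈ W₂ → ω⁻¹ w = ω w := fun h => hne (fun w hw => (h w hw).symm)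
  obtain ⟨φ, hφ, hα'⟩ := (mem_colR hP).mp hα
  obtain ⟨ψ, hψ, hβ'⟩ := (mem_colR hP).mp hβ
  by_cases hab : α = β
  · rw [if_pos hab, ← hab]
    rcases hα' with rfl | rfl
    · exact hself _
    · rw [classInner_neg_left, classInner_neg_right, neg_neg]; exact hself _
  · rw [if_neg hab]
    rcases hα' with rfl | rfl <;> rcases hβ' with rfl | rfl
    · exact hoff (fun h => hab (by rw [h]))
    · rw [classInner_neg_right, hoff (ne_of_ne_on hφ hψ hne), neg_zero]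
    · rw [classInner_neg_left, hoff (ne_of_ne_on hφ hψ hne'), neg_zero]
    · rw [classInner_neg_left, classInner_neg_right, neg_neg]
      exact hoff (fun h => hab (by rw [h]))

theorem colR_gen (hP : PrimeTIHyp L K W W₁ W₂) (hη : CyclicTIFam W W₁ W₂ η) {ω : ↥W →* ℂˣ}
    {α : G → ℂ} (hα : α ∈ colR W W₂ δ η ω) : IsGeneralizedCharacter G α := by
  obtain ⟨φ, -, rfl | rfl⟩ := (mem_colR hP).mp hα
  · exact VChar.gen_intCast_smul _ (PF3b.eta_gen hη _)
  · exact VChar.gen_neg (VChar.gen_intCast_smul _ (PF3b.eta_gen hη _))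

theorem colR_ortho_of (hP : PrimeTIHyp L K W W₁ W₂) {β : G → ℂ} {ω : ↥W →* ℂˣ}
    (hβ : ∀ ω, classInner β (η ω) = 0) {α : G → ℂ} (hα : α ∈ colR W W₂ δ η ω) :
    classInner β α = 0 := by
  obtain ⟨φ, -, rfl | rfl⟩ := (mem_colR hP).mp hα
  · rw [classInner_smul_right, hβ, mul_zero]
  · rw [classInner_neg_right, classInner_smul_right, hβ, mul_zero, neg_zero]

theorem colR_disjoint (hP : PrimeTIHyp L K W W₁ W₂)
    (hη : CyclicTIFam W W₁ W₂ η) {ω ω' : ↥W →* ℂˣ}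
    (h1 : ¬ ∀ w : ↥W, (w : G) ∈ W₂ → ω w = ω' w)
    (h2 : ¬ ∀ w : ↥W, (w : G) ∈ W₂ → ω w = ω'⁻¹ w) {α β : G → ℂ}
    (hα : α ∈ colR W W₂ δ η ω) (hβ : β ∈ colR W W₂ δ η ω') : classInner α β = 0 := by
  have h1' : ¬ ∀ w : ↥W, (w : G) ∈ W₂ → ω⁻¹ w = ω'⁻¹ w := by
    intro h
    apply h1
    intro w hw
    have := h w hw
    rw [MonoidHom.inv_apply, MonoidHom.inv_apply] at this
    exact inv_injective this
  have h2' : ¬ ∀ w : ↥W, (w : G) ∈ W₂ → ω⁻¹ w = ω' w := by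
    intro h
    apply h2
    intro w hw
    have := h w hw
    rw [MonoidHom.inv_apply] at this
    rw [MonoidHom.inv_apply, ← this, inv_inv]
  obtain ⟨φ, hφ, hα'⟩ := (mem_colR hP).mp hα
  obtain ⟨ψ, hψ, hβ'⟩ := (mem_colR hP).mp hβ
  have hoff : ∀ {ω₁ ω₂ : ↥W →* ℂˣ}, ω₁ ≠ ω₂ →
      classInner ((δ ω : ℂ) • η ω₁) ((δ ω' : ℂ) • η ω₂) = 0 := by
    intro ω₁ ω₂ h
    rw [inner_smul_eta, PF3b.eta_orth hη h, mul_zero]
  rcases hα' with rfl | rfl <;> rcases hβ' with rfl | rfl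
  · exact hoff (ne_of_ne_on hφ hψ h1)
  · rw [classInner_neg_right, hoff (ne_of_ne_on hφ hψ h2), neg_zero]
  · rw [classInner_neg_left, hoff (ne_of_ne_on hφ hψ h2'), neg_zero]
  · rw [classInner_neg_left, classInner_neg_right, neg_neg]
    exact hoff (ne_of_ne_on hφ hψ h1')

/-- Summation over `R (μ_j)`. -/
theorem sum_colR_apply (hP : PrimeTIHyp L K W W₁ W₂) (hμ : PrimeTIFam L K W W₁ W₂ μ δ)
    (hη : CyclicTIFam W W₁ W₂ η) {ω : ↥W →* ℂˣ} (hω : ω ∉ lin₁ W W₂) {M : Type*}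
    [AddCommMonoid M] (F : (G → ℂ) → M) :
    ∑ α ∈ colR W W₂ δ η ω, F α = ∑ᶠ φ ∈ lin₁ W W₂, F ((δ ω : ℂ) • η (φ * ω)) +
      ∑ᶠ φ ∈ lin₁ W W₂, F (-((δ ω : ℂ) • η (φ * ω⁻¹))) := by
  classical
  have hfin := finite_hom hP
  have h : (lin₁ W W₂).Finite := Set.toFinite _
  have hδ : (δ ω : ℂ) ≠ 0 := by
    rcases hμ.sign ω with h | h <;> rw [h] <;> norm_num
  have hinj : ∀ ω' : ↥W →* ℂˣ, ∀ φ ∈ h.toFinset, ∀ φ' ∈ h.toFinset,
      (δ ω : ℂ) • η (φ * ω') = (δ ω : ℂ) • η (φ' * ω') → φ = φ' := by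
    intro ω' φ _ φ' _ he
    exact hom_mul_right_cancel (PF3b.eta_injective hη (smul_right_injective _ hδ he))
  have hdisj : Disjoint (h.toFinset.image (fun φ => (δ ω : ℂ) • η (φ * ω)))
      (h.toFinset.image (fun φ => -((δ ω : ℂ) • η (φ * ω⁻¹)))) := by
    rw [Finset.disjoint_left]
    intro α hα hβ
    obtain ⟨φ, hφ, rfl⟩ := Finset.mem_image.mp hα
    obtain ⟨ψ, hψ, hψ'⟩ := Finset.mem_image.mp hβ
    rw [Set.Finite.mem_toFinset] at hφ hψ
    have h1 : classInner ((δ ω : ℂ) • η (φ * ω)) ((δ ω : ℂ) • η (φ * ω)) = 1 := by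
      rw [inner_smul_eta, PF3b.eta_norm hη, sign_sq hμ, mul_one]
    have h2 : classInner ((δ ω : ℂ) • η (φ * ω)) (-((δ ω : ℂ) • η (ψ * ω⁻¹))) = 0 := by
      rw [classInner_neg_right, inner_smul_eta,
        PF3b.eta_orth hη (ne_of_ne_on hφ hψ (ne_inv_on hP hω)), mul_zero, neg_zero]
    rw [hψ', h1] at h2
    exact one_ne_zero h2
  rw [colR, dif_pos h, Finset.sum_union hdisj,
    Finset.sum_image (fun φ hφ φ' hφ' => hinj ω φ hφ φ' hφ'),
    Finset.sum_image (fun φ hφ φ' hφ' he => hinj ω⁻¹ φ hφ φ' hφ' (neg_injective he)),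
    finsum_mem_eq_finite_toFinset_sum _ h, finsum_mem_eq_finite_toFinset_sum _ h]

theorem smul_colSum (hP : PrimeTIHyp L K W W₁ W₂) (c : ℂ) (ω : ↥W →* ℂˣ) :
    ∑ᶠ φ ∈ lin₁ W W₂, c • η (φ * ω) = c • colSum W W₂ η ω := by
  have hfin := finite_hom hP
  have h : (lin₁ W W₂).Finite := Set.toFinite _
  show _ = c • ∑ᶠ φ ∈ lin₁ W W₂, η (φ * ω)
  rw [finsum_mem_eq_finite_toFinset_sum _ h, finsum_mem_eq_finite_toFinset_sum _ h,
    Finset.smul_sum]

theorem sum_colR (hP : PrimeTIHyp L K W W₁ W₂) (hμ : PrimeTIFam L K W W₁ W₂ μ δ)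
    (hη : CyclicTIFam W W₁ W₂ η) {ω : ↥W →* ℂˣ} (hω : ω ∉ lin₁ W W₂) :
    ∑ α ∈ colR W W₂ δ η ω, α = (δ ω : ℂ) • (colSum W W₂ η ω - colSum W W₂ η ω⁻¹) := by
  rw [sum_colR_apply hP hμ hη hω (fun α => α), smul_colSum hP, smul_sub, sub_eq_add_neg,
    ← neg_smul, ← smul_colSum hP (-(δ ω : ℂ))]
  simp only [neg_smul]

open Classical in
/-- The choice of the sets `R χ`. -/
noncomputable def Rfun (A₀ : Set G) (L W W₂ : Subgroup G) [Fintype ↥L] (R : G → Subgroup G)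
    (μ : (↥W →* ℂˣ) → (↥L → ℂ)) (δ : (↥W →* ℂˣ) → ℤ) (η : (↥W →* ℂˣ) → (G → ℂ))
    (χ : ↥L → ℂ) : Finset (G → ℂ) :=
  if h : IsIrrCharacter ↥L χ ∧ ∃ p : (G → ℂ) × (G → ℂ), IsIrrCharacter G p.1 ∧
      IsIrrCharacter G p.2 ∧ p.1 ≠ p.2 ∧ dadeIsometry A₀ L R (χ - conjFun χ) = p.1 - p.2 ∧
      (∀ ω, classInner p.1 (η ω) = 0) ∧ (∀ ω, classInner p.2 (η ω) = 0) then
    {h.2.choose.1, -h.2.choose.2}
  else if h : ∃ ω, χ = colSum W W₂ μ ω then colR W W₂ δ η h.choose else ∅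

/-- (5.3)(b) -/
theorem prDade_subcoherent (hD : PrimeDadeHyp L K H A A₀ W W₁ W₂ R)
    (hμ : PrimeTIFam L K W W₁ W₂ μ δ) (hη : CyclicTIFam W W₁ W₂ η)
    (hodd : Odd (Nat.card L)) {S : Set (↥L → ℂ)} (hS : S ⊆ seqIndOf L K H ⊥)
    (hne : S.Nonempty) (hconj : ∀ χ ∈ S, conjFun χ ∈ S) :
    ∃ Rf : (↥L → ℂ) → Finset (G → ℂ), IsCoherenceSystem S (dadeIsometry A₀ L R) Rf ∧
      (∀ χ ∈ S, IsIrrCharacter ↥L χ → ∀ α ∈ Rf χ, ∀ ω, classInner α (η ω) = 0) ∧
      (∀ ω, colSum W W₂ μ ω ∈ S → ∀ α, α ∈ Rf (colSum W W₂ μ ω) ↔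
        ∃ φ ∈ lin₁ W W₂, α = (δ ω : ℂ) • η (φ * ω) ∨ α = -((δ ω : ℂ) • η (φ * ω⁻¹))) := by
  classical
  have hP := hD.primeTI
  -- description of `R` on irreducible members
  have hirr : ∀ χ ∈ S, IsIrrCharacter ↥L χ → ∃ a b : G → ℂ, IsIrrCharacter G a ∧
      IsIrrCharacter G b ∧ a ≠ b ∧ dadeIsometry A₀ L R (χ - conjFun χ) = a - b ∧
      (∀ ω, classInner a (η ω) = 0) ∧ (∀ ω, classInner b (η ω) = 0) ∧
      Rfun A₀ L W W₂ R μ δ η χ = {a, -b} := by
    intro χ hχ hi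
    have hex : IsIrrCharacter ↥L χ ∧ ∃ p : (G → ℂ) × (G → ℂ), IsIrrCharacter G p.1 ∧
      IsIrrCharacter G p.2 ∧ p.1 ≠ p.2 ∧ dadeIsometry A₀ L R (χ - conjFun χ) = p.1 - p.2 ∧
      (∀ ω, classInner p.1 (η ω) = 0) ∧ (∀ ω, classInner p.2 (η ω) = 0) := by
      refine ⟨hi, ?_⟩
      obtain ⟨a, b, h1, h2, h3, h4, h5, h6⟩ := irr_data hD hμ hη hodd hi (hS hχ)
      exact ⟨(a, b), h1, h2, h3, h4, h5, h6⟩
    obtain ⟨h1, h2, h3, h4, h5, h6⟩ := hex.2.choose_spec
    exact ⟨_, _, h1, h2, h3, h4, h5, h6, dif_pos hex⟩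
  -- description of `R` on the `μ_j`
  have hcol : ∀ ω, Rfun A₀ L W W₂ R μ δ η (colSum W W₂ μ ω) = colR W W₂ δ η ω := by
    intro ω
    have h1 : ¬ (IsIrrCharacter ↥L (colSum W W₂ μ ω) ∧ ∃ p : (G → ℂ) × (G → ℂ),
      IsIrrCharacter G p.1 ∧ IsIrrCharacter G p.2 ∧ p.1 ≠ p.2 ∧
      dadeIsometry A₀ L R (colSum W W₂ μ ω - conjFun (colSum W W₂ μ ω)) = p.1 - p.2 ∧
      (∀ ω, classInner p.1 (η ω) = 0) ∧ (∀ ω, classInner p.2 (η ω) = 0)) :=
      fun h => colSum_not_irr hD hμ ω h.1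
    have h2 : ∃ ω', colSum W W₂ μ ω = colSum W W₂ μ ω' := ⟨ω, rfl⟩
    rw [Rfun, dif_neg h1, dif_pos h2]
    refine colR_congr hP hμ ?_
    have h3 := (TIFam.colSum_mu_eq_iff hP hμ _ _).mp h2.choose_spec
    exact fun w hw => (h3 w hw).symm
  have hcase : ∀ χ ∈ S, IsIrrCharacter ↥L χ ∨ ∃ ω, ω ∉ lin₁ W W₂ ∧ χ = colSum W W₂ μ ω := by
    intro χ hχ
    rcases Prime.seqIndOf_cases hP hμ (hS hχ) with h | ⟨ω, rfl⟩
    · exact Or.inl h
    · exact Or.inr ⟨ω, notMem_lin₁ hP hμ (hS hχ), rfl⟩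
  obtain ⟨hiso, h10⟩ := Prime.prDade_isometry hD hS
  refine ⟨Rfun A₀ L W W₂ R μ δ η, ?_, ?_, ?_⟩
  · refine
      { nonempty := hne
        isCharacter := fun χ hχ => isCharacter_of_mem (hS hχ)
        conj_mem := hconj
        conj_ne := fun χ hχ => conj_ne hD hμ hodd (hS hχ)
        isometry := hiso
        map_one := h10
        orthogonal := fun χ hχ φ hφ h => orthogonal hP hμ (hS hχ) (hS hφ) h
        orthonormal := ?_
        virtual := ?_
        sum_eq := ?_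
        disjoint := ?_ }
    · intro χ hχ α hα β hβ
      rcases hcase χ hχ with hi | ⟨ω, hω, rfl⟩
      · obtain ⟨a, b, ha, hb, hab, -, -, -, hR⟩ := hirr χ hχ hi
        rw [hR, Finset.mem_insert, Finset.mem_singleton] at hα hβ
        have hne' : a ≠ -b := by
          intro h
          have h1 := classInner_irr_self ha
          rw [h, classInner_neg_left, ← h, classInner_irr_ne hb ha hab.symm, neg_zero] at h1
          exact zero_ne_one h1
        rcases hα with rfl | rfl <;> rcases hβ with rfl | rfl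
        · rw [if_pos rfl]; exact classInner_irr_self ha
        · rw [if_neg hne', classInner_neg_right, classInner_irr_ne ha hb hab, neg_zero]
        · rw [if_neg hne'.symm, classInner_neg_left, classInner_irr_ne hb ha hab.symm, neg_zero]
        · rw [if_pos rfl, classInner_neg_left, classInner_neg_right, neg_neg]
          exact classInner_irr_self hb
      · rw [hcol] at hα hβ
        convert colR_orthonormal hP hμ hη hω hα hβ using 1
        congr
    · intro χ hχ α hα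
      rcases hcase χ hχ with hi | ⟨ω, hω, rfl⟩
      · obtain ⟨a, b, ha, hb, hab, -, -, -, hR⟩ := hirr χ hχ hi
        rw [hR, Finset.mem_insert, Finset.mem_singleton] at hα
        rcases hα with rfl | rfl
        · exact VChar.gen_of_irr ha
        · exact VChar.gen_neg (VChar.gen_of_irr hb)
      · rw [hcol] at hα
        exact colR_gen hP hη hα
    · intro χ hχ
      rcases hcase χ hχ with hi | ⟨ω, hω, rfl⟩
      · obtain ⟨a, b, ha, hb, hab, hT, -, -, hR⟩ := hirr χ hχ hi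
        have hne' : a ≠ -b := by
          intro h
          have h1 := classInner_irr_self ha
          rw [h, classInner_neg_left, ← h, classInner_irr_ne hb ha hab.symm, neg_zero] at h1
          exact zero_ne_one h1
        rw [hR, Finset.sum_pair hne', hT, sub_eq_add_neg]
      · have hω' : ω⁻¹ ∉ lin₁ W W₂ := by
          intro h
          apply hω
          intro w hw
          have := h w hw
          rwa [MonoidHom.inv_apply, inv_eq_one] at this
        have hdeg : μ ω 1 = μ ω⁻¹ 1 := by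
          obtain ⟨n, -, hn⟩ := isIrr_apply_one (hμ.irr ω)
          rw [← (TIFam.mu_conj hP hμ ω).1, VChar.conjFun_apply, hn]
          simp
        rw [hcol, sum_colR hP hμ hη hω, TIFam.conjFun_colSum_mu hP hμ,
          Prime.prDade_sub_TIred hD hμ hη hω hω' hdeg]
    · intro χ hχ φ hφ h1 h2 α hα β hβ
      rcases hcase χ hχ with hi | ⟨ω, hω, rfl⟩
      · obtain ⟨a, b, ha, hb, hab, hT, ha', hb', hR⟩ := hirr χ hχ hi
        rw [hR, Finset.mem_insert, Finset.mem_singleton] at hβ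
        rcases hcase φ hφ with hi' | ⟨ω', hω', rfl⟩
        · obtain ⟨c, d, hc, hd, hcd, hT', -, -, hR'⟩ := hirr φ hφ hi'
          rw [hR', Finset.mem_insert, Finset.mem_singleton] at hα
          have h0 : classInner (c - d) (a - b) = 0 := by
            have m1 : φ - conjFun φ ∈ zspanOn S {1}ᶜ := by
              rw [VChar.mem_zspanOn_one_iff]
              refine ⟨VChar.zspan_sub (VChar.zspan_subset hφ) (VChar.zspan_subset (hconj _ hφ)), ?_⟩
              obtain ⟨n, -, hn⟩ := isIrr_apply_one hi'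
              rw [Pi.sub_apply, VChar.conjFun_apply, hn]; simp
            have m2 : χ - conjFun χ ∈ zspanOn S {1}ᶜ := by
              rw [VChar.mem_zspanOn_one_iff]
              refine ⟨VChar.zspan_sub (VChar.zspan_subset hχ) (VChar.zspan_subset (hconj _ hχ)), ?_⟩
              obtain ⟨n, -, hn⟩ := isIrr_apply_one hi
              rw [Pi.sub_apply, VChar.conjFun_apply, hn]; simp
            rw [← hT, ← hT', hiso.2.2.1 _ m1 _ m2]
            have e1 : classInner (conjFun φ) χ = 0 := by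
              have := congrArg (starRingEnd ℂ) h2
              rw [← VChar.classInner_conjFun, VChar.conjFun_conjFun, map_zero] at this
              exact this
            have e2 : classInner (conjFun φ) (conjFun χ) = 0 := by
              rw [VChar.classInner_conjFun, h1, map_zero]
            rw [classInner_sub_left, classInner_sub_right, classInner_sub_right, h1, h2, e1, e2]
            simp
          obtain ⟨n1, n2, n3, n4⟩ := cross_ortho hc hd ha hb hcd hab h0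
          rcases hα with rfl | rfl <;> rcases hβ with rfl | rfl
          · exact classInner_irr_ne hc ha n1
          · rw [classInner_neg_right, classInner_irr_ne hc hb n2, neg_zero]
          · rw [classInner_neg_left, classInner_irr_ne hd ha n3, neg_zero]
          · rw [classInner_neg_left, classInner_neg_right, classInner_irr_ne hd hb n4]; simp
        · rw [hcol] at hα
          apply VChar.classInner_comm_eq_zero
          rcases hβ with rfl | rfl
          · exact colR_ortho_of hP ha' hα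
          · rw [classInner_neg_left, colR_ortho_of hP hb' hα, neg_zero]
      · rw [hcol] at hβ
        rcases hcase φ hφ with hi' | ⟨ω', hω', rfl⟩
        · obtain ⟨c, d, hc, hd, hcd, hT', hc', hd', hR'⟩ := hirr φ hφ hi'
          rw [hR', Finset.mem_insert, Finset.mem_singleton] at hα
          rcases hα with rfl | rfl
          · exact colR_ortho_of hP hc' hβ
          · rw [classInner_neg_left, colR_ortho_of hP hd' hβ, neg_zero]
        · rw [hcol] at hα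
          have hw1 : (Nat.card W₁ : ℂ) ≠ 0 := by exact_mod_cast Nat.card_pos.ne'
          refine colR_disjoint hP hη ?_ ?_ hα hβ
          · intro h
            rw [TIFam.inner_colSum_colSum hP hμ, if_pos h] at h1
            exact hw1 h1
          · intro h
            rw [TIFam.conjFun_colSum_mu hP hμ, TIFam.inner_colSum_colSum hP hμ, if_pos h] at h2
            exact hw1 h2
  · intro χ hχ hi α hα ω
    obtain ⟨a, b, ha, hb, hab, hT, ha', hb', hR⟩ := hirr χ hχ hi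
    rw [hR, Finset.mem_insert, Finset.mem_singleton] at hα
    rcases hα with rfl | rfl
    · exact ha' ω
    · rw [classInner_neg_left, hb' ω, neg_zero]
  · intro ω _ α
    rw [hcol, mem_colR hP]

end Cfsg.Agent.OddOrderCharacters.PF4b.Subcoherent
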