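import Cfsg.Agent.OddOrderCharacters.Galois
import Cfsg.Agent.OddOrderCharacters.DadeBasic

/-!
# Peterfalvi (5.9): coherent extensions of the Dade map commute with field automorphisms
-/

set_option autoImplicit false

open scoped ComplexConjugate
open Cfsg

namespace Cfsg.Agent.OddOrderCharacters.PF4b.Galois59

open Galois VChar
open Cfsg.Agent.Characters.Core

universe u v

section general

variable {G : Type u} [Group G] [Fintype G]

/-- Bessel for two orthonormal generalized characters against a generalized character of norm one: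
the integer coefficients are not both nonzero and have absolute value at most one. -/
theorem bessel_two {X Y Z : G → ℂ} (hX : IsGeneralizedCharacter G X)
    (hY : IsGeneralizedCharacter G Y) (hZ : IsGeneralizedCharacter G Z)
    (hXX : classInner X X = 1) (hYY : classInner Y Y = 1) (hXY : classInner X Y = 0)
    (hZZ : classInner Z Z = 1) {n m : ℤ} (hn : classInner Z X = n) (hm : classInner Z Y = m) :
    n ^ 2 + m ^ 2 ≤ 1 := by
  have hYX : classInner Y X = 0 := classInner_comm_eq_zero hXY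
  have hn' : classInner X Z = n := by rw [gen_inner_comm hX hZ, hn]
  have hm' : classInner Y Z = m := by rw [gen_inner_comm hY hZ, hm]
  have h1 := classInner_self_re_nonneg (Z - n • X - m • Y)
  have h2 : classInner (Z - n • X - m • Y) (Z - n • X - m • Y) = ((1 - n ^ 2 - m ^ 2 : ℤ) : ℂ) := by
    simp only [classInner_sub_left, classInner_sub_right, classInner_zsmul_left,
      classInner_zsmul_right, hXX, hYY, hXY, hYX, hZZ, hn, hm, hn', hm']
    push_cast
    ring
  rw [h2, Complex.intCast_re] at h1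
  have h3 : 0 ≤ 1 - n ^ 2 - m ^ 2 := by exact_mod_cast h1
  linarith

theorem eq_of_inner_eq_one {X Y : G → ℂ} (hX : IsGeneralizedCharacter G X)
    (hY : IsGeneralizedCharacter G Y) (hXX : classInner X X = 1) (hYY : classInner Y Y = 1)
    (hXY : classInner X Y = 1) : X = Y := by
  have hYX : classInner Y X = 1 := by rw [gen_inner_comm hY hX, hXY]
  have h1 : classInner (X - Y) (X - Y) = 0 := by
    simp only [classInner_sub_left, classInner_sub_right, hXX, hYY, hXY, hYX]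
    ring
  exact sub_eq_zero.1 (classInner_self_eq_zero h1)

/-- Comparison of two orthonormal pairs: `a X - b Y = a X' - b Y'` with `a, b > 0`. -/
theorem compare {X Y X' Y' : G → ℂ} (hX : IsGeneralizedCharacter G X)
    (hY : IsGeneralizedCharacter G Y) (hX' : IsGeneralizedCharacter G X')
    (hY' : IsGeneralizedCharacter G Y')
    (hXX : classInner X X = 1) (hXY : classInner X Y = 0)
    (hXX' : classInner X' X' = 1) (hYY' : classInner Y' Y' = 1) (hXY' : classInner X' Y' = 0)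
    {a b : ℕ} (ha : 0 < a) (heq : a • X - b • Y = a • X' - b • Y') :
    X = X' ∨ (a = b ∧ X = -Y') := by
  obtain ⟨n, hn⟩ := gen_inner hX hX'
  obtain ⟨m, hm⟩ := gen_inner hX hY'
  have hb1 := bessel_two hX' hY' hX hXX' hYY' hXY' hXX hn hm
  have hn' : classInner X' X = n := by rw [gen_inner_comm hX' hX, hn]
  have hm' : classInner Y' X = m := by rw [gen_inner_comm hY' hX, hm]
  have hYX : classInner Y X = 0 := classInner_comm_eq_zero hXY
  have h1 : classInner (a • X - b • Y) X = classInner (a • X' - b • Y') X := by rw [heq]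
  simp only [classInner_sub_left, classInner_nsmul_left, hXX, hYX, hn', hm'] at h1
  have h2 : (a : ℤ) = a * n - b * m := by
    have h3 : ((a : ℤ) : ℂ) = ((a * n - b * m : ℤ) : ℂ) := by
      push_cast
      rw [← h1]
      ring
    exact_mod_cast h3
  by_cases hn0 : n = 0
  · right
    subst hn0
    have hmle : m ^ 2 ≤ 1 := by nlinarith
    have hm1 : m = -1 := by
      have hle : -1 ≤ m ∧ m ≤ 1 := by constructor <;> nlinarith
      have hmne : m ≠ 0 := by
        rintro rfl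
        have : (a : ℤ) = 0 := by rw [h2]; ring
        omega
      have hmne1 : m ≠ 1 := by
        rintro rfl
        have : (a : ℤ) = -b := by rw [h2]; ring
        omega
      omega
    subst hm1
    refine ⟨by
      have : (a : ℤ) = b := by rw [h2]; ring
      exact_mod_cast this, ?_⟩
    refine eq_of_inner_eq_one hX (gen_neg hY') hXX ?_ ?_
    · rw [classInner_neg_left, classInner_neg_right, hYY']
      ring
    · rw [classInner_neg_right, hm]
      push_cast
      ring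
  · left
    have hn2 : 1 ≤ n ^ 2 := by
      have : n ^ 2 ≠ 0 := pow_ne_zero 2 hn0
      have h0 : 0 ≤ n ^ 2 := sq_nonneg n
      omega
    have hm0 : m = 0 := by
      have h3 : m ^ 2 ≤ 0 := by linarith
      have h4 : m ^ 2 = 0 := le_antisymm h3 (sq_nonneg m)
      exact pow_eq_zero_iff (two_ne_zero) |>.1 h4
    subst hm0
    have hn1 : n = 1 := by
      have h3 : (a : ℤ) * (n - 1) = 0 := by
        rw [mul_sub, mul_one]
        nth_rewrite 2 [h2]
        ring
      rcases mul_eq_zero.1 h3 with h4 | h4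
      · omega
      · omega
    subst hn1
    exact eq_of_inner_eq_one hX hX' hXX hXX' (by rw [hn]; simp)

/-- A generalized character of norm one does not vanish at `1`. -/
theorem apply_one_ne_zero {X : G → ℂ} (hX : IsGeneralizedCharacter G X)
    (hXX : classInner X X = 1) : X 1 ≠ 0 := by
  rcases isIrr_of_generalized hX hXX with h | h
  · obtain ⟨n, hn, h1⟩ := isIrr_apply_one h
    rw [h1]
    exact_mod_cast hn.ne'
  · obtain ⟨n, hn, h1⟩ := isIrr_apply_one h
    intro h0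
    rw [Pi.neg_apply, h0, neg_zero] at h1
    exact hn.ne' (by exact_mod_cast h1.symm)

end general

variable {G : Type u} [Group G] [Fintype G] {L : Subgroup G} [Fintype ↥L] {R : G → Subgroup G}

/-- Two coherent extensions agree on an irreducible member, given a second irreducible member. -/
theorem eq_of_agree {L : Type v} [Group L] [Fintype L] {S : Set (L → ℂ)}
    {τ₁ τ₂ : (L → ℂ) → (G → ℂ)} (h₁ : IsLinearIsometryOn (zspan S) τ₁)
    (h₂ : IsLinearIsometryOn (zspan S) τ₂)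
    {χ ζ : L → ℂ} (hχ : χ ∈ S) (hζ : ζ ∈ S) (hχi : IsIrrCharacter L χ)
    (hζi : IsIrrCharacter L ζ) (hne : χ ≠ ζ) {a b : ℕ} (ha : ζ 1 = a) (hb : χ 1 = b)
    (hagree : τ₁ (a • χ - b • ζ) = τ₂ (a • χ - b • ζ))
    (hone : τ₁ (a • χ - b • ζ) 1 = 0) (hζ1 : τ₂ ζ 1 = τ₁ ζ 1) :
    τ₁ χ = τ₂ χ := by
  have hχs := zspan_subset hχ
  have hζs := zspan_subset hζ
  have hlin : ∀ {τ : (L → ℂ) → (G → ℂ)}, IsLinearIsometryOn (zspan S) τ →
      τ (a • χ - b • ζ) = a • τ χ - b • τ ζ := by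
    intro τ hτ
    rw [span_sub hτ (zspan_nsmul a hχs) (zspan_nsmul b hζs)]
    have e1 : τ (a • χ) = a • τ χ := by
      have := hτ.2.1 χ hχs (a : ℤ)
      simpa using this
    have e2 : τ (b • ζ) = b • τ ζ := by
      have := hτ.2.1 ζ hζs (b : ℤ)
      simpa using this
    rw [e1, e2]
  have hapos : 0 < a := by
    obtain ⟨n, hn, h1⟩ := isIrr_apply_one hζi
    rw [ha] at h1
    have : a = n := by exact_mod_cast h1
    omega
  have horth : classInner χ ζ = 0 := classInner_irr_ne hχi hζi hne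
  have hgen₁χ := h₁.2.2.2 χ hχs
  have hgen₁ζ := h₁.2.2.2 ζ hζs
  have hgen₂χ := h₂.2.2.2 χ hχs
  have hgen₂ζ := h₂.2.2.2 ζ hζs
  have hn₁ : classInner (τ₁ χ) (τ₁ χ) = 1 := by
    rw [h₁.2.2.1 χ hχs χ hχs, classInner_irr_self hχi]
  have hn₂ : classInner (τ₂ χ) (τ₂ χ) = 1 := by
    rw [h₂.2.2.1 χ hχs χ hχs, classInner_irr_self hχi]
  have hn₂ζ : classInner (τ₂ ζ) (τ₂ ζ) = 1 := by
    rw [h₂.2.2.1 ζ hζs ζ hζs, classInner_irr_self hζi]
  have ho₁ : classInner (τ₁ χ) (τ₁ ζ) = 0 := by rw [h₁.2.2.1 χ hχs ζ hζs, horth]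
  have ho₂ : classInner (τ₂ χ) (τ₂ ζ) = 0 := by rw [h₂.2.2.1 χ hχs ζ hζs, horth]
  rw [hlin h₁, hlin h₂] at hagree
  rcases compare hgen₁χ hgen₁ζ hgen₂χ hgen₂ζ hn₁ ho₁ hn₂ hn₂ζ ho₂ hapos hagree with h | ⟨hab, h⟩
  · exact h
  · exfalso
    rw [hlin h₁] at hone
    have h3 : (a : ℂ) * τ₁ χ 1 - (b : ℂ) * τ₁ ζ 1 = 0 := by
      have : (a • τ₁ χ - b • τ₁ ζ) 1 = (a : ℂ) * τ₁ χ 1 - (b : ℂ) * τ₁ ζ 1 := by
        simp
      rw [← this]
      exact hone
    have h4 : τ₁ χ 1 = -τ₁ ζ 1 := by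
      rw [h, Pi.neg_apply, hζ1]
    rw [← hab, h4] at h3
    have h5 : (a : ℂ) * τ₁ ζ 1 = 0 := by linear_combination (-1 / 2 : ℂ) * h3
    rcases mul_eq_zero.1 h5 with h6 | h6
    · exact hapos.ne' (by exact_mod_cast h6)
    · have h7 : τ₁ χ 1 = 0 := by rw [h4, h6, neg_zero]
      exact apply_one_ne_zero hgen₁χ hn₁ h7

omit [Fintype G] [Fintype ↥L] in
/-- The Dade map produces functions vanishing at `1`. -/
theorem dadeIsometry_apply_one {A : Set G} (hD : DadeHypothesis A L R) (α : ↥L → ℂ) :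
    dadeIsometry A L R α 1 = 0 := by
  apply DadeBasic.dadeIsometry_eq_zero
  rintro ⟨a, ha, u, hu, x, h⟩
  have h1 : a * u = 1 := by
    rw [← h]
    group
  have h2 : a = u⁻¹ := eq_inv_of_mul_eq_one_left h1
  have h3 : a = 1 := DadeBasic.H_inf_L hD ha (by
    have := (R a).inv_mem hu
    rwa [← h2] at this) (hD.subset ha)
  rw [h3] at ha
  exact hD.one_not_mem ha

/-- (5.9)(a): a coherent extension commutes with a field automorphism on irreducible members, if `S` is
stable and contains another irreducible member. -/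
theorem gal_Dade_coherent {A : Set G} (hD : DadeHypothesis A L R)
    {S : Set (↥L → ℂ)} (hchar : ∀ χ ∈ S, IsCharacter ↥L χ)
    (s : ℂ ≃+* ℂ) (hs : ∀ χ ∈ S, gal s χ ∈ S) {τ₁ : (↥L → ℂ) → (G → ℂ)}
    (hiso : IsLinearIsometryOn (zspan S) τ₁)
    (hext : ∀ α ∈ zspanOn S {1}ᶜ, τ₁ α = dadeIsometry A L R α)
    {χ : ↥L → ℂ} (hχ : χ ∈ S) (hirr : IsIrrCharacter ↥L χ)
    (htwo : ∃ ζ ∈ S, ζ ≠ χ ∧ IsIrrCharacter ↥L ζ) :
    gal s (τ₁ χ) = τ₁ (gal s χ) := by
  obtain ⟨ζ, hζ, hne, hζi⟩ := htwo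
  have hstab : ∀ α ∈ zspan S, gal s α ∈ zspan S := fun α hα => gal_mem_zspan s hs hα
  have hgen : ∀ α ∈ zspan S, IsGeneralizedCharacter ↥L α := fun α hα =>
    gen_of_mem_zspan (fun χ hχ => gen_of_char (hchar χ hχ)) hα
  have h₂ : IsLinearIsometryOn (zspan S) (fun α => gal s.symm (τ₁ (gal s α))) :=
    isLinearIsometryOn_gal s hiso hstab hgen
  obtain ⟨a, _, ha⟩ := isIrr_apply_one hζi
  obtain ⟨b, _, hb⟩ := isIrr_apply_one hirr
  have hmem : a • χ - b • ζ ∈ zspanOn S {1}ᶜ := by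
    rw [mem_zspanOn_one_iff]
    refine ⟨zspan_sub (zspan_nsmul a (zspan_subset hχ)) (zspan_nsmul b (zspan_subset hζ)), ?_⟩
    have : (a • χ - b • ζ) 1 = (a : ℂ) * χ 1 - (b : ℂ) * ζ 1 := by simp
    rw [this, ha, hb]
    ring
  have hmem' : gal s (a • χ - b • ζ) ∈ zspanOn S {1}ᶜ := gal_mem_zspanOn s hs hmem
  -- degrees
  have hdeg : ∀ ξ ∈ S, τ₁ (gal s ξ) 1 = τ₁ ξ 1 := by
    intro ξ hξ
    have hg1 : (gal s ξ) 1 = ξ 1 := gal_apply_one s (gen_of_char (hchar ξ hξ))
    have hm : gal s ξ - ξ ∈ zspanOn S {1}ᶜ := by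
      rw [mem_zspanOn_one_iff]
      refine ⟨zspan_sub (zspan_subset (hs ξ hξ)) (zspan_subset hξ), ?_⟩
      rw [Pi.sub_apply, hg1, sub_self]
    have h1 := hext _ hm
    rw [span_sub hiso (zspan_subset (hs ξ hξ)) (zspan_subset hξ)] at h1
    have h2 := congrFun h1 1
    rw [dadeIsometry_apply_one hD, Pi.sub_apply, sub_eq_zero] at h2
    exact h2
  have key := eq_of_agree hiso h₂ hχ hζ hirr hζi hne.symm ha hb (by
    show τ₁ (a • χ - b • ζ) = gal s.symm (τ₁ (gal s (a • χ - b • ζ)))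
    rw [hext _ hmem, hext _ hmem', dadeIsometry_gal, gal_symm_gal]) (by
    rw [hext _ hmem, dadeIsometry_apply_one hD]) (by
    show gal s.symm (τ₁ (gal s ζ)) 1 = τ₁ ζ 1
    rw [gal_apply_one s.symm (hiso.2.2.2 _ (zspan_subset (hs ζ hζ))), hdeg ζ hζ])
  have key' : τ₁ χ = gal s.symm (τ₁ (gal s χ)) := key
  rw [key', gal_gal_symm]

/-- (5.9)(b): complex conjugation. -/
theorem conj_Dade_coherent {A : Set G} (hD : DadeHypothesis A L R)
    {S : Set (↥L → ℂ)} (hchar : ∀ χ ∈ S, IsCharacter ↥L χ)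
    (hs : ∀ χ ∈ S, conjFun χ ∈ S) {τ₁ : (↥L → ℂ) → (G → ℂ)}
    (hiso : IsLinearIsometryOn (zspan S) τ₁)
    (hext : ∀ α ∈ zspanOn S {1}ᶜ, τ₁ α = dadeIsometry A L R α)
    {χ : ↥L → ℂ} (hχ : χ ∈ S) (hreal : conjFun χ ≠ χ) (hirr : IsIrrCharacter ↥L χ) :
    conjFun (τ₁ χ) = τ₁ (conjFun χ) := by
  have h := gal_Dade_coherent hD hchar (starRingAut : ℂ ≃+* ℂ)
    (fun ξ hξ => by rw [gal_conj]; exact hs ξ hξ) hiso hext hχ hirr
    ⟨conjFun χ, hs χ hχ, hreal, isIrr_conjFun hirr⟩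
  rwa [gal_conj, gal_conj] at h

end Cfsg.Agent.OddOrderCharacters.PF4b.Galois59
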